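import Cfsg.Agent.Lib.H2.Herm3
import Cfsg.Agent.Lib.H2.GU2Syl

/-! The fusion systems of `PSp` and `PSU` in the defining characteristic are simple (helper2). -/

set_option autoImplicit false
set_option linter.style.haveILetI false
open Cfsg Subgroup
open scoped Matrix

namespace Cfsg.Agent.H2

variable {K : Type*} [Field K] {X : Type*} [Group X] {ι : Type} [Fintype ι] [DecidableEq ι]

/-- A matrix representation as a homomorphism to linear automorphisms. -/
noncomputable def matRep (t : X →* Matrix ι ι K) : X →* ((ι → K) ≃ₗ[K] (ι → K)) :=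
  (LinearMap.GeneralLinearGroup.generalLinearEquiv K _).toMonoidHom.comp
    ((Matrix.toLinAlgEquiv' (R := K) (n := ι)).toRingEquiv.toMonoidHom.comp t).toHomUnits

theorem matRep_apply (t : X →* Matrix ι ι K) (x : X) (v : ι → K) : matRep t x v = t x *ᵥ v := rfl

theorem matRep_injective {t : X →* Matrix ι ι K} (h : Function.Injective t) :
    Function.Injective (matRep t) := fun _ _ e =>
  h (Matrix.toLin'.injective (LinearMap.ext fun v => LinearEquiv.congr_fun e v))

theorem det_matRep (t : X →* Matrix ι ι K) (x : X) : (LinearEquiv.det (matRep t x) : K) = (t x).det := by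
  rw [LinearEquiv.coe_det, ← LinearMap.det_toLin']; rfl

theorem simpleFus_quotient_of_range {Y : Type*} [Group Y] [Finite Y] {p : ℕ} [Fact p.Prime] {G : Subgroup Y}
    (h : SimpleFus p G ∧ (Nat.card (center G)).Coprime p) (φ : X →* Y) (hφ : Function.Injective φ)
    (hr : φ.range = G) : SimpleFus p (X ⧸ center X) := by
  haveI : Finite X := Finite.of_injective _ hφ
  let e : X ≃* G := (MonoidHom.ofInjective hφ).trans (MulEquiv.subgroupCongr hr)
  exact (h.1.of_equiv e.symm).quotient_center (by rw [Nat.card_congr (centerCongr e).toEquiv]; exact h.2)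

/-- The standard symplectic form. -/
def spHerm (m : ℕ) (K : Type*) [Field K] : Herm K (Fin m ⊕ Fin m → K) where
  σ := RingHom.id K
  σσ _ := rfl
  B u v := u ⬝ᵥ Matrix.J (Fin m) K *ᵥ v
  add_left x y z := add_dotProduct _ _ _
  smul_left a x y := smul_dotProduct _ _ _
  skew x y := by
    rw [Matrix.dotProduct_mulVec, ← Matrix.mulVec_transpose, Matrix.J_transpose, Matrix.neg_mulVec,
      neg_dotProduct, dotProduct_comm]; rfl
  nondeg x hx := by
    obtain ⟨i, hi⟩ := Function.ne_iff.1 hx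
    refine ⟨Matrix.J (Fin m) K *ᵥ Pi.single i 1, ?_⟩
    rw [Matrix.mulVec_mulVec, Matrix.J_squared, Matrix.neg_mulVec, Matrix.one_mulVec]
    simpa using hi
  case := Or.inl ⟨fun _ => rfl, fun x => by
    simp [Matrix.J, Matrix.fromBlocks_mulVec, dotProduct, Matrix.neg_mulVec, mul_comm]⟩

theorem simpleFus_PSp [Fintype K] (p : ℕ) [Fact p.Prime] [CharP K p] (m : ℕ) (hm : 2 ≤ m)
    (hex : m = 2 → 3 ≤ Fintype.card K) : SimpleFus p (PSp m K) := by
  refine simpleFus_quotient_of_range ((spHerm m K).simpleFus (by simp; omega) fun _ h => ?_)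
    (matRep (Matrix.symplecticGroup (Fin m) K).subtype) (matRep_injective Subtype.val_injective) ?_
  · have h1 : Fintype.card K ≤ 2 := by
      classical
      calc Fintype.card K ≤ ({0, 1} : Finset K).card :=
            Finset.card_le_card fun a _ => by simpa using h a
        _ ≤ 2 := Finset.card_le_two
    have : m ≠ 2 := fun h => by have := hex h; omega
    simp; omega
  have key : ∀ (A : Matrix (Fin m ⊕ Fin m) (Fin m ⊕ Fin m) K) x y,
      (spHerm m K).B (A *ᵥ x) (A *ᵥ y) = x ⬝ᵥ (Aᵀ * Matrix.J (Fin m) K * A) *ᵥ y := fun A x y => by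
    change (A *ᵥ x) ⬝ᵥ _ = _
    rw [← Matrix.vecMul_transpose, ← Matrix.dotProduct_mulVec, Matrix.mulVec_mulVec, Matrix.mulVec_mulVec]
  refine le_antisymm ?_ fun g hg => ?_
  · rintro _ ⟨A, rfl⟩
    refine ⟨fun x y => ?_, Or.inr fun _ => rfl⟩
    rw [matRep_apply, matRep_apply, key, Submonoid.subtype_apply, SymplecticGroup.mem_iff'.1 A.2]; rfl
  · have h1 : ∀ x, LinearMap.toMatrix' g.toLinearMap *ᵥ x = g x := fun x => by
      rw [← Matrix.toLin'_apply, Matrix.toLin'_toMatrix']; rfl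
    refine ⟨⟨LinearMap.toMatrix' g.toLinearMap, SymplecticGroup.mem_iff'.2 ?_⟩,
      LinearEquiv.ext h1⟩
    ext i j
    have h2 := hg.1 (Pi.single i 1) (Pi.single j 1)
    rw [← h1, ← h1, key] at h2
    simpa [spHerm] using h2

/-- The standard hermitian form, made skew. -/
def uHerm (n : ℕ) {q : ℕ} (σ : K →+* K) (hσ : ∀ x, σ x = x ^ q) (hσσ : ∀ x, σ (σ x) = x) (θ : K)
    (hθ : σ θ ≠ θ) (hN : ∀ r, σ r = r → ∃ t, t * σ t = r) : Herm K (Fin n → K) where
  σ := σ
  σσ := hσσ
  B u v := (θ - σ θ) * hermForm n K q u v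
  add_left x y z := by simp [hermForm, add_mul, Finset.sum_add_distrib, mul_add]
  smul_left a x y := by
    simp only [hermForm, Pi.smul_apply, smul_eq_mul, mul_assoc, ← Finset.mul_sum]; ring
  skew x y := by
    simp only [hermForm, ← hσ, map_mul, map_sub, map_sum, hσσ, mul_comm (σ (x _))]; ring
  nondeg x hx := by
    obtain ⟨i, hi⟩ := Function.ne_iff.1 hx
    refine ⟨Pi.single i 1, mul_ne_zero (sub_ne_zero.2 hθ.symm) ?_⟩
    simpa [hermForm, ← hσ, Pi.single_apply, apply_ite σ] using hi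
  case := Or.inr ⟨⟨θ, hθ⟩, hN⟩

theorem simpleFus_PSU [Fintype K] (p q : ℕ) [Fact p.Prime] [CharP K p] (hK : Fintype.card K = q ^ 2) (n : ℕ)
    (hn : 4 ≤ n) : SimpleFus p (PSU n K q) := by
  classical
  obtain ⟨σ, hσ⟩ := exists_pow_card_eq two_ne_zero hK
  have hσσ : ∀ x, σ (σ x) = x := fun x => by rw [hσ, hσ, ← pow_mul, ← pow_two, ← hK, FiniteField.pow_card]
  have hq : 2 ≤ q := by
    have h1 := Fintype.one_lt_card (α := K)
    by_contra h
    have : q ≤ 1 := by omega
    interval_cases q <;> omega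
  obtain ⟨θ, hθ⟩ : ∃ θ, σ θ ≠ θ := by
    by_contra! h
    have h1 := (FiniteField.forall_pow_eq_one_iff K (q - 1)).1 fun x => Units.ext (mul_right_cancel₀ x.ne_zero (by
      rw [Units.val_pow_eq_pow_val, ← pow_succ, show q - 1 + 1 = q by omega, ← hσ, h]; simp))
    have h2 := Nat.le_of_dvd (by omega) h1
    rw [hK] at h2
    have : q < q ^ 2 := by nlinarith
    omega
  have hN : ∀ r, σ r = r → ∃ t, t * σ t = r := fun r hr => by
    by_cases h : r = 0
    · exact ⟨0, by simp [h]⟩
    obtain ⟨t, ht⟩ := (Nat.card_pos_iff.1 (q.succ_pos.trans_eq (card_norm_fiber hK h (hσ r ▸ hr)).symm)).1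
    exact ⟨t, by rw [hσ, ← pow_succ', ht]⟩
  have hθ' : θ - σ θ ≠ 0 := sub_ne_zero.2 hθ.symm
  refine simpleFus_quotient_of_range ((uHerm n σ hσ hσσ θ hθ hN).simpleFus (by simpa)
    fun h => absurd (h θ) hθ) (matRep ((slToMat n K).comp (SU n K q).subtype))
    (matRep_injective fun x y e => Subtype.ext (Subtype.ext e)) ?_
  refine le_antisymm ?_ fun g hg => ?_
  · rintro _ ⟨A, rfl⟩
    exact ⟨fun x y => congrArg _ (A.2 x y), Or.inl (Units.ext ((det_matRep _ _).trans A.1.2))⟩
  · have h1 : ∀ x, LinearMap.toMatrix' g.toLinearMap *ᵥ x = g x := fun x => by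
      rw [← Matrix.toLin'_apply, Matrix.toLin'_toMatrix']; rfl
    refine ⟨⟨⟨LinearMap.toMatrix' g.toLinearMap, ?_⟩, fun x y => ?_⟩, LinearEquiv.ext h1⟩
    · rw [LinearMap.det_toMatrix', ← LinearEquiv.coe_det, hg.2.resolve_right fun h => hθ (h θ)]; rfl
    · have h2 := hg.1 x y
      rw [← h1, ← h1] at h2
      exact mul_left_cancel₀ hθ' h2

end Cfsg.Agent.H2
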