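import Cfsg.Agent.Lib.H2.Unip

/-! Symplectic and unitary geometry: Eichler transformations (helper2). -/

set_option autoImplicit false
set_option linter.style.haveILetI false
open Cfsg Subgroup

namespace Cfsg.Agent.H2

/-- A nondegenerate alternating or skew-hermitian form. -/
structure Herm (K V : Type*) [Field K] [AddCommGroup V] [Module K V] where
  σ : K →+* K
  σσ : ∀ a, σ (σ a) = a
  B : V → V → K
  add_left : ∀ x y z, B (x + y) z = B x z + B y z
  smul_left : ∀ (a : K) x y, B (a • x) y = a * B x y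
  skew : ∀ x y, B y x = -σ (B x y)
  nondeg : ∀ x, x ≠ 0 → ∃ y, B x y ≠ 0
  case : ((∀ a, σ a = a) ∧ ∀ x, B x x = 0) ∨ ((∃ t, σ t ≠ t) ∧ ∀ r, σ r = r → ∃ t, t * σ t = r)

namespace Herm

variable {K V : Type*} [Field K] [AddCommGroup V] [Module K V] (H : Herm K V)

attribute [simp] add_left smul_left σσ

theorem σ_B (x y : V) : H.σ (H.B x y) = -H.B y x := by rw [H.skew x y, neg_neg]

@[simp] theorem add_right (x y z : V) : H.B x (y + z) = H.B x y + H.B x z := by
  rw [H.skew, H.add_left, map_add, H.σ_B, H.σ_B]; ring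

@[simp] theorem smul_right (a : K) (x y : V) : H.B x (a • y) = H.σ a * H.B x y := by
  rw [H.skew, H.smul_left, map_mul, H.σ_B]; ring

@[simp] theorem zero_left (x : V) : H.B 0 x = 0 := by simpa using H.smul_left 0 0 x

@[simp] theorem zero_right (x : V) : H.B x 0 = 0 := by simpa using H.smul_right 0 x 0

@[simp] theorem neg_left (x y : V) : H.B (-x) y = -H.B x y := by simpa using H.smul_left (-1) x y

@[simp] theorem neg_right (x y : V) : H.B x (-y) = -H.B x y := by simpa using H.smul_right (-1) x y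

@[simp] theorem sub_left (x y z : V) : H.B (x - y) z = H.B x z - H.B y z := by
  simp [sub_eq_add_neg]

@[simp] theorem sub_right (x y z : V) : H.B x (y - z) = H.B x y - H.B x z := by
  simp [sub_eq_add_neg]

theorem σ_eq_zero {a : K} : H.σ a = 0 ↔ a = 0 := map_eq_zero H.σ

variable {H} in
theorem symm0 {x y : V} (h : H.B x y = 0) : H.B y x = 0 := by rw [H.skew, h]; simp

variable {H} in
theorem symm_ne {x y : V} (h : H.B x y ≠ 0) : H.B y x ≠ 0 := fun h' => h (symm0 h')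

variable {H} in
theorem symm1 {x y : V} (h : H.B x y = 1) : H.B y x = -1 := by rw [H.skew, h]; simp

theorem exists_sub_σ (x : V) : ∃ c, c - H.σ c = H.B x x := by
  rcases H.case with ⟨-, h⟩ | ⟨⟨t, ht⟩, -⟩
  · exact ⟨0, by simp [h]⟩
  · have h : t - H.σ t ≠ 0 := sub_ne_zero.2 ht.symm
    have h' : H.σ t - t ≠ 0 := sub_ne_zero.2 ht
    refine ⟨t * (H.B x x / (t - H.σ t)), ?_⟩
    simp only [map_mul, map_div₀, map_sub, H.σσ, H.σ_B]
    field_simp
    ring

/-- The form as a linear form in the first variable. -/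
def dual (z : V) : Module.Dual K V where
  toFun x := H.B x z
  map_add' x y := H.add_left x y z
  map_smul' a x := H.smul_left a x z

@[simp] theorem dual_apply (z x : V) : H.dual z x = H.B x z := rfl

/-- The isometry group (of determinant one in the unitary case). -/
def G : Subgroup (V ≃ₗ[K] V) where
  carrier := {g | (∀ x y, H.B (g x) (g y) = H.B x y) ∧ (LinearEquiv.det g = 1 ∨ ∀ a, H.σ a = a)}
  one_mem' := ⟨fun _ _ => rfl, Or.inl (map_one _)⟩
  mul_mem' := fun {g h} hg hh => ⟨fun x y => (hg.1 _ _).trans (hh.1 x y), by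
    rcases hg.2 with h1 | h1
    · exact hh.2.imp_left fun h2 => by rw [map_mul, h1, h2, one_mul]
    · exact Or.inr h1⟩
  inv_mem' := fun {g} hg => ⟨fun x y => by
    rw [← hg.1]; simp, hg.2.imp_left fun h => by rw [map_inv, h, inv_one]⟩

/-- The linear map underlying an Eichler transformation. -/
def eichL (z u : V) (c : K) : V →ₗ[K] V where
  toFun x := x + H.B x z • u + (H.B x u + c * H.B x z) • z
  map_add' x y := by simp only [add_left]; module
  map_smul' a x := by simp only [smul_left, RingHom.id_apply]; module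

open Classical in
/-- Eichler transformations. -/
noncomputable def eich (z u : V) (c : K) : V ≃ₗ[K] V :=
  if h : H.B z z = 0 ∧ H.B u z = 0 then
    LinearEquiv.ofLinearMap (H.eichL z u c) (H.eichL z (-u) (H.B u u - c))
      (by ext x; simp [eichL, h.1, h.2, symm0 h.2]; module)
      (by ext x; simp [eichL, h.1, h.2, symm0 h.2]; module)
  else 1

variable {H}

theorem eich_apply {z u : V} (hz : H.B z z = 0) (hu : H.B u z = 0) (c : K) (x : V) :
    H.eich z u c x = x + H.B x z • u + (H.B x u + c * H.B x z) • z := by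
  rw [eich, dif_pos ⟨hz, hu⟩]; rfl

theorem eich_mul {z u u' : V} (hz : H.B z z = 0) (hu : H.B u z = 0) (hu' : H.B u' z = 0) (c c' : K) :
    H.eich z u c * H.eich z u' c' = H.eich z (u + u') (c + c' + H.B u' u) := by
  ext x
  rw [LinearEquiv.mul_apply, eich_apply hz hu, eich_apply hz hu', eich_apply hz (by simp [hu, hu'])]
  simp [hz, hu', symm0 hu]
  module

theorem eich_zero {z : V} (hz : H.B z z = 0) : H.eich z 0 0 = 1 := by
  ext x; rw [eich_apply hz (by simp)]; simp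

theorem eich_inv {z u : V} (hz : H.B z z = 0) (hu : H.B u z = 0) (c : K) :
    (H.eich z u c)⁻¹ = H.eich z (-u) (H.B u u - c) := by
  rw [inv_eq_iff_mul_eq_one, eich_mul hz hu (by simp [hu])]
  simpa using eich_zero hz

theorem eich_conj {g : V ≃ₗ[K] V} (hg : g ∈ H.G) {z u : V} (hz : H.B z z = 0) (hu : H.B u z = 0) (c : K) :
    g * H.eich z u c * g⁻¹ = H.eich (g z) (g u) c := by
  rw [mul_inv_eq_iff_eq_mul]
  ext x
  rw [LinearEquiv.mul_apply, LinearEquiv.mul_apply, eich_apply hz hu,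
    eich_apply ((hg.1 _ _).trans hz) ((hg.1 _ _).trans hu)]
  simp [hg.1]

theorem eich_smul {z : V} (hz : H.B z z = 0) (a c : K) :
    H.eich (a • z) 0 c = H.eich z 0 (c * (a * H.σ a)) := by
  ext x
  rw [eich_apply hz (by simp), eich_apply (by simp [hz]) (by simp)]
  simp
  module

theorem eich_add_smul {z u : V} (hz : H.B z z = 0) (hu : H.B u z = 0) (t c : K) :
    H.eich z (u + t • z) c = H.eich z u (c + (t + H.σ t)) := by
  ext x
  rw [eich_apply hz hu, eich_apply hz (by simp [hz, hu])]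
  simp
  module

theorem eich_iso {z u : V} (hz : H.B z z = 0) (hu : H.B u z = 0) {c : K} (hc : c - H.σ c = H.B u u)
    (x y : V) : H.B (H.eich z u c x) (H.eich z u c y) = H.B x y := by
  rw [eich_apply hz hu, eich_apply hz hu]
  simp [hz, hu, symm0 hu, H.σ_B]
  linear_combination (H.B x z * H.B z y) * hc

/-- The orthogonal complement. -/
def perp (H : Herm K V) (E : Submodule K V) : Submodule K V where
  carrier := {y | ∀ x ∈ E, H.B y x = 0}
  add_mem' := fun ha hb x hx => by simp [ha x hx, hb x hx]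
  zero_mem' := fun x _ => by simp
  smul_mem' := fun a y hy x hx => by simp [hy x hx]

theorem mem_perp {E : Submodule K V} {y : V} : y ∈ H.perp E ↔ ∀ x ∈ E, H.B y x = 0 := Iff.rfl

theorem mem_perp_span {z y : V} : y ∈ H.perp (K ∙ z) ↔ H.B y z = 0 :=
  ⟨fun h => h z (Submodule.mem_span_singleton_self z), fun h x hx => by
    obtain ⟨a, rfl⟩ := Submodule.mem_span_singleton.1 hx
    simp [h]⟩

/-- The elements supported in `W`. -/
def supp (H : Herm K V) (W : Submodule K V) : Subgroup (V ≃ₗ[K] V) where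
  carrier := {g | g ∈ H.G ∧ ∀ x, g x - x ∈ W}
  one_mem' := ⟨H.G.one_mem, by simp⟩
  mul_mem' := fun {g h} hg hh => ⟨H.G.mul_mem hg.1 hh.1, fun x => by
    simpa using W.add_mem (hg.2 (h x)) (hh.2 x)⟩
  inv_mem' := fun {g} hg => ⟨H.G.inv_mem hg.1, fun x => by
    simpa using W.neg_mem (hg.2 (g⁻¹ x))⟩

theorem supp_top : H.supp ⊤ = H.G := le_antisymm (fun _ h => h.1) fun _ h => ⟨h, fun _ => trivial⟩

theorem supp_mono {W W' : Submodule K V} (h : W ≤ W') : H.supp W ≤ H.supp W' :=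
  fun _ hg => ⟨hg.1, fun x => h (hg.2 x)⟩

theorem supp_mem {W : Submodule K V} {g : V ≃ₗ[K] V} (hg : g ∈ H.supp W) {x : V} (hx : x ∈ W) :
    g x ∈ W := by simpa using W.add_mem (hg.2 x) hx

/-- The unipotent radical of the stabiliser of `E`. -/
def RE (H : Herm K V) (E : Submodule K V) : Subgroup (V ≃ₗ[K] V) where
  carrier := {g | g ∈ H.G ∧ (∀ x ∈ E, g x = x) ∧ ∀ y ∈ H.perp E, g y - y ∈ E}
  one_mem' := ⟨H.G.one_mem, by simp, by simp⟩
  mul_mem' := fun {g h} hg hh => ⟨H.G.mul_mem hg.1 hh.1, fun x hx => by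
    rw [LinearEquiv.mul_apply, hh.2.1 x hx, hg.2.1 x hx], fun y hy => by
    have h1 := hg.2.1 _ (hh.2.2 y hy)
    rw [map_sub, sub_eq_iff_eq_add] at h1
    rw [LinearEquiv.mul_apply, h1, add_sub_assoc]
    exact E.add_mem (hh.2.2 y hy) (hg.2.2 y hy)⟩
  inv_mem' := fun {g} hg => by
    have h1 : ∀ x ∈ E, g⁻¹ x = x := fun x hx => by
      conv_lhs => rw [← hg.2.1 x hx]
      simp
    refine ⟨H.G.inv_mem hg.1, h1, fun y hy => ?_⟩
    have h2 := h1 _ (hg.2.2 y hy)
    rw [map_sub] at h2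
    simp only [LinearEquiv.coe_inv, LinearEquiv.symm_apply_apply] at h2
    have h3 := E.neg_mem (hg.2.2 y hy)
    rwa [← h2, neg_sub] at h3

/-- The unipotent radical of the stabiliser of an isotropic point. -/
abbrev R (H : Herm K V) (z : V) : Subgroup (V ≃ₗ[K] V) := H.RE (K ∙ z)

theorem R_fix {z : V} {g : V ≃ₗ[K] V} (hg : g ∈ H.R z) : g z = z :=
  hg.2.1 z (Submodule.mem_span_singleton_self z)

theorem R_smul {z : V} {a : K} (ha : a ≠ 0) : H.R (a • z) = H.R z := by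
  rw [R, Submodule.span_singleton_smul_eq (Ne.isUnit ha)]

theorem sub_mem_perp {E : Submodule K V} {g : V ≃ₗ[K] V} (hg : g ∈ H.G) (h : ∀ x ∈ E, g x = x) (y : V) :
    g y - y ∈ H.perp E := fun x hx => by
  rw [sub_left, ← hg.1 y x, h x hx, sub_self]

theorem conj_mem_RE {E E' : Submodule K V} {g r : V ≃ₗ[K] V} (hg : g ∈ H.G) (h : ∀ x ∈ E, g x ∈ E')
    (h' : ∀ x ∈ E', g⁻¹ x ∈ E) (hr : r ∈ H.RE E) : g * r * g⁻¹ ∈ H.RE E' := by
  refine ⟨mul_mem (mul_mem hg hr.1) (inv_mem hg), fun x hx => ?_, fun y hy => ?_⟩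
  · rw [LinearEquiv.mul_apply, LinearEquiv.mul_apply, hr.2.1 _ (h' x hx)]; simp
  · have h1 : g⁻¹ y ∈ H.perp E := fun x hx => by
      rw [← hg.1]; simpa using hy _ (h x hx)
    simpa using h _ (hr.2.2 _ h1)

theorem conj_mem_R {z : V} {g r : V ≃ₗ[K] V} (hg : g ∈ H.G) (hr : r ∈ H.R z) : g * r * g⁻¹ ∈ H.R (g z) := by
  refine conj_mem_RE hg (fun x hx => ?_) (fun x hx => ?_) hr <;>
    obtain ⟨a, rfl⟩ := Submodule.mem_span_singleton.1 hx
  · exact Submodule.mem_span_singleton.2 ⟨a, by simp⟩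
  · exact Submodule.mem_span_singleton.2 ⟨a, by simp⟩

section CharP

variable {p : ℕ} [hp : Fact p.Prime] [CharP K p]

theorem pow_eq_one_of_three {E : Submodule K V} {g : V ≃ₗ[K] V} (h0 : ∀ y, g y - y ∈ H.perp E)
    (h1 : ∀ x ∈ E, g x = x) (h2 : ∀ y ∈ H.perp E, g y - y ∈ E) : g ^ p ^ 3 = 1 := by
  refine pow_eq_one_of_chain (fun i x => match i with
    | 0 => True
    | 1 => x ∈ H.perp E
    | 2 => x ∈ E
    | _ => x = 0) (fun _ => trivial) (fun i hi x hx => ?_) fun _ h => h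
  interval_cases i
  exacts [h0 x, h2 x hx, sub_eq_zero.2 (h1 x hx)]

theorem RE_pow {E : Submodule K V} {g : V ≃ₗ[K] V} (hg : g ∈ H.RE E) : g ^ p ^ 3 = 1 :=
  pow_eq_one_of_three (sub_mem_perp hg.1 hg.2.1) hg.2.1 hg.2.2

theorem isPGroup_RE (E : Submodule K V) : IsPGroup p (H.RE E) :=
  fun g => ⟨3, Subtype.ext (RE_pow g.2)⟩

include hp in
theorem eich_mem_RE {E : Submodule K V} {z u : V} (hE : E ≤ H.perp E) (hz : z ∈ E) (hu : u ∈ H.perp E)
    {c : K} (hc : c - H.σ c = H.B u u) : H.eich z u c ∈ H.RE E := by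
  have hz' := hE hz z hz
  have hu' := hu z hz
  have h1 : ∀ x ∈ E, H.eich z u c x = x := fun x hx => by
    rw [eich_apply hz' hu']; simp [hE hx z hz, symm0 (hu x hx)]
  have h2 : ∀ y ∈ H.perp E, H.eich z u c y - y ∈ E := fun y hy => by
    rw [eich_apply hz' hu']; simpa [hy z hz] using E.smul_mem _ hz
  refine ⟨⟨eich_iso hz' hu' hc, Or.inl (det_eq_one_of_pow (p := p)
    (pow_eq_one_of_three (H := H) (E := E) (fun y x hx => ?_) h1 h2))⟩, h1, h2⟩
  rw [sub_left, ← eich_iso hz' hu' hc y x, h1 x hx, sub_self]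

include hp in
theorem eich_mem_R {z u : V} (hz : H.B z z = 0) (hu : H.B u z = 0) {c : K} (hc : c - H.σ c = H.B u u) :
    H.eich z u c ∈ H.R z :=
  eich_mem_RE (p := p) ((Submodule.span_singleton_le_iff_mem _ _).2 (mem_perp_span.2 hz))
    (Submodule.mem_span_singleton_self z) (mem_perp_span.2 hu) hc

include hp in
theorem eich_mem_supp {W : Submodule K V} {z u : V} (hz : H.B z z = 0) (hu : H.B u z = 0) {c : K}
    (hc : c - H.σ c = H.B u u) (hzW : z ∈ W) (huW : u ∈ W) : H.eich z u c ∈ H.R z ⊓ H.supp W := by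
  refine ⟨eich_mem_R (p := p) hz hu hc, (eich_mem_R (p := p) hz hu hc).1, fun x => ?_⟩
  rw [eich_apply hz hu, add_assoc, add_sub_cancel_left]
  exact W.add_mem (W.smul_mem _ huW) (W.smul_mem _ hzW)

omit hp [CharP K p] in
theorem exists_eich_apply {z x y : V} (hz : H.B z z = 0) (h1 : H.B x x = H.B y y) (h2 : H.B x z = H.B y z)
    (h3 : H.B x z ≠ 0) : ∃ c, H.B ((H.B x z)⁻¹ • (y - x)) z = 0 ∧
      c - H.σ c = H.B ((H.B x z)⁻¹ • (y - x)) ((H.B x z)⁻¹ • (y - x)) ∧
      H.eich z ((H.B x z)⁻¹ • (y - x)) c x = y := by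
  have hu : H.B ((H.B x z)⁻¹ • (y - x)) z = 0 := by simp [h2]
  have h4 : H.σ (H.B x z) ≠ 0 := (map_ne_zero H.σ).2 h3
  refine ⟨-H.B x ((H.B x z)⁻¹ • (y - x)) / H.B x z, hu, ?_, ?_⟩
  · simp only [smul_left, smul_right, sub_left, sub_right, map_div₀, map_neg, map_mul, map_sub, map_inv₀,
      σσ, H.σ_B x y, H.σ_B x x, ← h1]
    field_simp
    ring
  · rw [eich_apply hz hu, div_mul_cancel₀ _ h3, add_neg_cancel, zero_smul, add_zero, smul_smul,
      mul_inv_cancel₀ h3, one_smul, add_sub_cancel]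

include hp in
theorem exists_R_apply {W : Submodule K V} {z x y : V} (hz : H.B z z = 0) (h1 : H.B x x = H.B y y)
    (h2 : H.B x z = H.B y z) (h3 : H.B x z ≠ 0) (hzW : z ∈ W) (hW : y - x ∈ W) :
    ∃ r ∈ H.R z ⊓ H.supp W, r x = y := by
  obtain ⟨c, h4, h5, h6⟩ := exists_eich_apply hz h1 h2 h3
  exact ⟨_, eich_mem_supp (p := p) hz h4 h5 hzW (W.smul_mem _ hW), h6⟩

end CharP

/-- The group generated by the Eichler transformations supported in `W`. -/
def E (H : Herm K V) (W : Submodule K V) : Subgroup (V ≃ₗ[K] V) :=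
  closure {g | ∃ z ∈ W, z ≠ 0 ∧ H.B z z = 0 ∧ g ∈ H.R z ⊓ H.supp W}

theorem E_le_supp (W : Submodule K V) : H.E W ≤ H.supp W :=
  (closure_le _).2 (by rintro g ⟨z, -, -, -, h⟩; exact h.2)

theorem E_mono {W W' : Submodule K V} (h : W ≤ W') : H.E W ≤ H.E W' :=
  Subgroup.closure_mono (by rintro g ⟨z, h1, h2, h3, h4⟩; exact ⟨z, h h1, h2, h3, h4.1, supp_mono h h4.2⟩)

theorem R_le_E {W : Submodule K V} {z : V} (h1 : z ∈ W) (h2 : z ≠ 0) (h3 : H.B z z = 0) :
    H.R z ⊓ H.supp W ≤ H.E W := fun _ hg => subset_closure ⟨z, h1, h2, h3, hg⟩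

/-- Nondegenerate subspaces. -/
def Nd (H : Herm K V) (W : Submodule K V) : Prop := ∀ w ∈ W, w ≠ 0 → ∃ w' ∈ W, H.B w w' ≠ 0

theorem nd_top : H.Nd ⊤ := fun w _ h => (H.nondeg w h).imp fun _ h => ⟨trivial, h⟩

theorem ne_zero_left {x y : V} (h : H.B x y ≠ 0) : x ≠ 0 := by rintro rfl; simp at h

theorem ne_zero_right {x y : V} (h : H.B x y ≠ 0) : y ≠ 0 := by rintro rfl; simp at h

theorem exists_isotropic_add {x : V} (hx : H.B x x = 0) {a : V} (ha : H.B x a ≠ 0) :
    ∃ t : K, H.B (a + t • x) (a + t • x) = 0 := by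
  obtain ⟨c, hc⟩ := H.exists_sub_σ a
  refine ⟨-c / H.B x a, ?_⟩
  have h4 : H.σ (H.B x a) ≠ 0 := (map_ne_zero H.σ).2 ha
  simp only [add_left, add_right, smul_left, smul_right, hx, map_div₀, map_neg, H.skew x a, ← hc]
  field_simp
  ring

theorem Nd.exists_partner {W : Submodule K V} (hW : H.Nd W) {e : V} (he : e ∈ W) (he0 : e ≠ 0)
    (hee : H.B e e = 0) : ∃ f ∈ W, H.B f f = 0 ∧ H.B e f = 1 := by
  obtain ⟨a, ha, h⟩ := hW e he he0
  obtain ⟨t, ht⟩ := exists_isotropic_add hee h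
  refine ⟨(H.σ (H.B e a))⁻¹ • (a + t • e), W.smul_mem _ (W.add_mem ha (W.smul_mem _ he)), ?_, ?_⟩
  · rw [smul_left, smul_right, ht]; simp
  · simp [hee, h]

theorem Nd.exists_common {W : Submodule K V} (hW : H.Nd W) {x y : V} (hx : x ∈ W) (hy : y ∈ W)
    (hx0 : x ≠ 0) (hy0 : y ≠ 0) (hxx : H.B x x = 0) (hxy : H.B y x = 0) :
    ∃ w ∈ W, H.B w w = 0 ∧ H.B x w ≠ 0 ∧ H.B y w ≠ 0 := by
  obtain ⟨a, ha, h1, h2⟩ : ∃ a ∈ W, H.B x a ≠ 0 ∧ H.B y a ≠ 0 := by
    obtain ⟨a, ha, h⟩ := hW x hx hx0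
    obtain ⟨a', ha', h'⟩ := hW y hy hy0
    by_cases h1 : H.B y a = 0
    · by_cases h2 : H.B x a' = 0
      · exact ⟨a + a', W.add_mem ha ha', by simpa [h2], by simpa [h1]⟩
      · exact ⟨a', ha', h2, h'⟩
    · exact ⟨a, ha, h, h1⟩
  obtain ⟨t, ht⟩ := exists_isotropic_add hxx h1
  exact ⟨_, W.add_mem ha (W.smul_mem _ hx), ht, by simpa [hxx], by simpa [hxy]⟩

/-- The orthogonal complement in `W` of a hyperbolic pair. -/
def pp (H : Herm K V) (W : Submodule K V) (e f : V) : Submodule K V := W ⊓ H.perp (K ∙ e) ⊓ H.perp (K ∙ f)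

theorem mem_pp {W : Submodule K V} {e f x : V} : x ∈ H.pp W e f ↔ x ∈ W ∧ H.B x e = 0 ∧ H.B x f = 0 := by
  simp [pp, mem_perp_span, and_assoc]

theorem pp_le {W : Submodule K V} {e f : V} : H.pp W e f ≤ W := fun _ h => (mem_pp.1 h).1

theorem proj_mem_pp {W : Submodule K V} {e f x : V} (he : e ∈ W) (hf : f ∈ W) (hee : H.B e e = 0)
    (hff : H.B f f = 0) (hef : H.B e f = 1) (hx : x ∈ W) : x - H.B x f • e + H.B x e • f ∈ H.pp W e f :=
  mem_pp.2 ⟨W.add_mem (W.sub_mem hx (W.smul_mem _ he)) (W.smul_mem _ hf), by simp [hee, symm1 hef],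
    by simp [hff, hef]⟩

theorem Nd.pp {W : Submodule K V} (hW : H.Nd W) {e f : V} (he : e ∈ W) (hf : f ∈ W) (hee : H.B e e = 0)
    (hff : H.B f f = 0) (hef : H.B e f = 1) : H.Nd (H.pp W e f) := by
  intro w hw hw0
  obtain ⟨h1, h2, h3⟩ := mem_pp.1 hw
  obtain ⟨a, ha, h⟩ := hW w h1 hw0
  exact ⟨_, proj_mem_pp he hf hee hff hef ha, by simpa [h2, h3]⟩

theorem pp_lt {W : Submodule K V} {e f : V} (he : e ∈ W) (hef : H.B e f = 1) : H.pp W e f < W :=
  lt_of_le_of_ne pp_le fun h => by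
    have := (mem_pp.1 (h.symm ▸ he : e ∈ H.pp W e f)).2.2
    rw [hef] at this; exact one_ne_zero this

theorem mem_supp_pp {W : Submodule K V} {e f : V} {g : V ≃ₗ[K] V} (hg : g ∈ H.supp W) (he : g e = e)
    (hf : g f = f) : g ∈ H.supp (H.pp W e f) :=
  ⟨hg.1, fun x => mem_pp.2 ⟨hg.2 x, by rw [sub_left, ← hg.1.1 x e, he, sub_self],
    by rw [sub_left, ← hg.1.1 x f, hf, sub_self]⟩⟩

theorem Nd.fix {W : Submodule K V} (hW : H.Nd W) {g : V ≃ₗ[K] V} (hg : g ∈ H.supp W) {x : V}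
    (hx : x ∈ H.perp W) : g x = x := by
  by_contra h
  obtain ⟨u, hu, h1⟩ := hW _ (hg.2 x) (sub_ne_zero.2 h)
  refine h1 ?_
  have h2 := hg.1.1 x (g⁻¹ u)
  simp only [LinearEquiv.coe_inv, LinearEquiv.apply_symm_apply] at h2
  rw [sub_left, h2, hx u hu, sub_zero]
  exact hx _ (supp_mem (inv_mem hg) hu)

theorem left_mem_perp_pp {W : Submodule K V} {e f : V} : e ∈ H.perp (H.pp W e f) :=
  fun _ hx => symm0 (mem_pp.1 hx).2.1

theorem right_mem_perp_pp {W : Submodule K V} {e f : V} : f ∈ H.perp (H.pp W e f) :=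
  fun _ hx => symm0 (mem_pp.1 hx).2.2

theorem Nd.exists_aniso {W : Submodule K V} (hW : H.Nd W) (h0 : W ≠ ⊥) {t : K} (ht : H.σ t ≠ t) :
    ∃ w ∈ W, H.B w w ≠ 0 := by
  by_contra! h
  obtain ⟨x, hx, hx0⟩ := W.ne_bot_iff.1 h0
  obtain ⟨y, hy, h1⟩ := hW x hx hx0
  have h2 : ∀ a : K, H.σ (a * H.B x y) = a * H.B x y := fun a => by
    have := h _ (W.add_mem (W.smul_mem a hx) hy)
    simp only [add_left, add_right, smul_left, smul_right, h x hx, h y hy, H.skew x y] at this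
    rw [map_mul]; linear_combination -this
  have := h2 (t / H.B x y)
  rw [div_mul_cancel₀ _ h1] at this
  exact ht this

theorem exists_norm {w : V} (hw : H.B w w ≠ 0) {s : K} (hs : H.σ s = -s) :
    ∃ t : K, t * H.σ t * H.B w w = s := by
  rcases H.case with ⟨-, h⟩ | ⟨-, h⟩
  · exact absurd (h w) hw
  · obtain ⟨t, ht⟩ := h (s / H.B w w) (by rw [map_div₀, hs, H.σ_B, neg_div_neg_eq])
    exact ⟨t, by rw [ht, div_mul_cancel₀ _ hw]⟩

theorem le_span_of_aniso {W : Submodule K V} (h : ∀ x ∈ W, H.B x x = 0 → x = 0) {w : V} (hw : w ∈ W)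
    (hw0 : w ≠ 0) {x : V} (hx : x ∈ W) : x = (H.B x w / H.B w w) • w := by
  have hww : H.B w w ≠ 0 := fun h' => hw0 (h w hw h')
  set y := x - (H.B x w / H.B w w) • w with hy
  have hyW : y ∈ W := W.sub_mem hx (W.smul_mem _ hw)
  have h1 : H.B y w = 0 := by simp [hy, hww]
  obtain ⟨t, ht⟩ := exists_norm hww (s := -H.B y y) (by rw [map_neg, H.σ_B])
  have h2 := h _ (W.add_mem hyW (W.smul_mem t hw)) (by
    simp only [add_left, add_right, smul_left, smul_right, h1, symm0 h1]; linear_combination ht)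
  have h3 : t = 0 := by
    have := congrArg (H.B · w) h2
    simpa [h1, hww] using this
  rw [h3, zero_smul, add_zero] at h2
  exact sub_eq_zero.1 h2

end Herm

end Cfsg.Agent.H2
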