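import Cfsg.Agent.Lib.H2.Herm1

/-! Symplectic and unitary geometry: transitivity, generation, Sylow subgroups (helper2). -/

set_option autoImplicit false
set_option linter.style.haveILetI false
open Cfsg Subgroup

namespace Cfsg.Agent.H2

open Cfsg.FusionSystem Cfsg.Agent.H7

namespace Herm

variable {K V : Type*} [Field K] [AddCommGroup V] [Module K V] {H : Herm K V}

theorem R_eq_one {v f : V} (hvv : H.B v v = 0) (hff : H.B f f = 0) (hvf : H.B v f = 1) {r : V ≃ₗ[K] V}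
    (hr : r ∈ H.R v) (hf : r f = f) : r = 1 := by
  ext x
  obtain ⟨-, h1, h2⟩ := mem_pp.1 (proj_mem_pp (W := ⊤) trivial trivial hvv hff hvf (x := x) trivial)
  set y := x - H.B x f • v + H.B x v • f with hy
  obtain ⟨a, ha⟩ := Submodule.mem_span_singleton.1 (hr.2.2 y (mem_perp_span.2 h1))
  have h3 : H.B (r y - y) f = 0 := by rw [sub_left, ← hr.1.1 y f, hf, sub_self]
  rw [← ha, smul_left, hvf, mul_one] at h3
  rw [h3, zero_smul, eq_comm, sub_eq_zero, hy, map_add, map_sub, map_smul, map_smul, hf, R_fix hr] at ha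
  simpa using ha

theorem R_eq {v f : V} (hvv : H.B v v = 0) (hff : H.B f f = 0) (hvf : H.B v f = 1) {r : V ≃ₗ[K] V}
    (p : ℕ) [Fact p.Prime] [CharP K p] (hr : r ∈ H.R v) :
    ∃ u ∈ H.pp ⊤ v f, ∃ c, c - H.σ c = H.B u u ∧ r = H.eich v u c := by
  have h1 : H.B f v = H.B (r f) v := by rw [← hr.1.1 f v, R_fix hr]
  obtain ⟨c, h4, h5, h6⟩ := exists_eich_apply hvv (hr.1.1 f f).symm h1 (by rw [symm1 hvf]; simp)
  set u := (H.B f v)⁻¹ • (r f - f)
  have h7 := R_eq_one hvv hff hvf (mul_mem (inv_mem (eich_mem_R (p := p) hvv h4 h5)) hr) (by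
    rw [LinearEquiv.mul_apply, ← h6]; simp)
  have h8 : u - H.B u f • v ∈ H.pp ⊤ v f := by
    simpa [h4] using proj_mem_pp (W := ⊤) trivial trivial hvv hff hvf (x := u) trivial
  refine ⟨_, h8, c + (H.B u f + H.σ (H.B u f)), ?_, ?_⟩
  · simp only [map_add, σσ, sub_left, sub_right, smul_left, smul_right, hvv, h4, symm0 h4, ← h5]; ring
  · rw [← eich_add_smul hvv (mem_pp.1 h8).2.1, sub_add_cancel, ← inv_mul_eq_one.1 h7]

theorem exists_isotropic_of_finrank [FiniteDimensional K V] {v f : V} (hvv : H.B v v = 0)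
    (hff : H.B f f = 0) (hvf : H.B v f = 1) (h : 4 ≤ Module.finrank K V) :
    ∃ e ∈ H.pp ⊤ v f, e ≠ 0 ∧ H.B e e = 0 := by
  by_contra! h1
  have h1' : ∀ x ∈ H.pp ⊤ v f, H.B x x = 0 → x = 0 := fun x hx h2 => by
    by_contra h3; exact h1 x hx h3 h2
  obtain ⟨w, hw⟩ : ∃ w, ∀ x ∈ H.pp ⊤ v f, ∃ a : K, x = a • w := by
    by_cases h2 : H.pp ⊤ v f = ⊥
    · exact ⟨0, fun x hx => ⟨0, by simpa [h2] using hx⟩⟩
    · obtain ⟨w, hw, hw0⟩ := (Submodule.ne_bot_iff _).1 h2
      exact ⟨w, fun x hx => ⟨_, le_span_of_aniso h1' hw hw0 hx⟩⟩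
  have h2 := finrank_le_of_span_eq_top (R := K) (v := ![v, f, w]) (eq_top_iff.2 fun x _ => by
    obtain ⟨a, ha⟩ := hw _ (proj_mem_pp (W := ⊤) trivial trivial hvv hff hvf (x := x) trivial)
    rw [Submodule.mem_span_range_iff_exists_fun]
    exact ⟨![H.B x f, -H.B x v, a], by simp [Fin.sum_univ_three, ← ha]; abel⟩)
  simp at h2; omega

theorem pp_ne_bot_of_finrank [FiniteDimensional K V] {v f e g : V} (hvv : H.B v v = 0)
    (hff : H.B f f = 0) (hvf : H.B v f = 1) (he : e ∈ H.pp ⊤ v f) (hg : g ∈ H.pp ⊤ v f)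
    (hee : H.B e e = 0) (hgg : H.B g g = 0) (heg : H.B e g = 1) (h : 5 ≤ Module.finrank K V) :
    H.pp (H.pp ⊤ v f) e g ≠ ⊥ := by
  intro h1
  have h2 := finrank_le_of_span_eq_top (R := K) (v := ![v, f, e, g]) (eq_top_iff.2 fun x _ => by
    have h3 := proj_mem_pp he hg hee hgg heg
      (proj_mem_pp (W := ⊤) trivial trivial hvv hff hvf (x := x) trivial)
    rw [h1, Submodule.mem_bot] at h3
    rw [Submodule.mem_span_range_iff_exists_fun]
    set y := x - H.B x f • v + H.B x v • f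
    refine ⟨![H.B x f, -H.B x v, H.B y g, -H.B y e], ?_⟩
    simp only [Fin.sum_univ_four, Matrix.cons_val_zero, Matrix.cons_val_one, Matrix.cons_val]
    linear_combination (norm := module) -h3)
  simp at h2; omega

variable {p : ℕ} [hp : Fact p.Prime] [CharP K p]
include hp

theorem exists_E_of_real {W : Submodule K V} {x y : V} (hx : x ∈ W) (hy : y ∈ W) (hxx : H.B x x = 0)
    (hyy : H.B y y = 0) (h : H.B x y ≠ 0) (h' : H.σ (H.B x y) = H.B x y) : ∃ r ∈ H.E W, r x = y := by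
  have h1 : H.B (x - y) (x - y) = 0 := by simp [hxx, hyy, H.skew x y, h']
  have h2 : H.B x (x - y) ≠ 0 := by simpa [hxx]
  obtain ⟨r, hr, e⟩ := exists_R_apply (p := p) h1 (hxx.trans hyy.symm)
    (by simp [hxx, hyy, H.skew x y, h']) h2 (W.sub_mem hx hy) (W.sub_mem hy hx)
  exact ⟨r, R_le_E (W.sub_mem hx hy) (ne_zero_right h2) h1 hr, e⟩

theorem exists_E_of_aniso {W : Submodule K V} {x y w : V} (hx : x ∈ W) (hy : y ∈ W) (hw : w ∈ W)
    (hxx : H.B x x = 0) (hyy : H.B y y = 0) (h : H.B x y ≠ 0) (hww : H.B w w ≠ 0) (h1 : H.B w x = 0)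
    (h2 : H.B w y = 0) : ∃ r ∈ H.E W, r x = y := by
  have h' : H.σ (H.B x y) ≠ 0 := (map_ne_zero H.σ).2 h
  obtain ⟨t, ht⟩ := exists_norm hww (s := (H.B x y)⁻¹ - (H.σ (H.B x y))⁻¹) (by simp)
  set z := -(H.B x y)⁻¹ • x + (H.σ (H.B x y))⁻¹ • y + t • w with hz
  have h3 : H.B x z = 1 := by simp [hz, hxx, symm0 h1, h]
  have h4 : H.B y z = 1 := by simp [hz, hyy, symm0 h2, H.skew x y, h']
  have h5 : H.B z z = 0 := by
    conv_lhs => enter [2]; rw [hz]
    simp only [add_left, smul_left, h3, h4]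
    simp only [hz, add_right, smul_right, h1, h2]
    linear_combination ht
  have hzW : z ∈ W := W.add_mem (W.add_mem (W.smul_mem _ hx) (W.smul_mem _ hy)) (W.smul_mem _ hw)
  obtain ⟨r, hr, e⟩ := exists_R_apply (p := p) h5 (hxx.trans hyy.symm) (h3.trans h4.symm)
    (h3 ▸ one_ne_zero) hzW (W.sub_mem hy hx)
  exact ⟨r, R_le_E hzW (ne_zero_right (h3 ▸ one_ne_zero : H.B x z ≠ 0)) h5 hr, e⟩

theorem Nd.exists_E_point {W : Submodule K V} (hW : H.Nd W) {x y : V} (hx : x ∈ W) (hy : y ∈ W)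
    (hx0 : x ≠ 0) (hy0 : y ≠ 0) (hxx : H.B x x = 0) (hyy : H.B y y = 0) :
    ∃ r ∈ H.E W, ∃ a : K, a ≠ 0 ∧ r x = a • y := by
  have key : ∀ x ∈ W, ∀ y ∈ W, H.B x x = 0 → H.B y y = 0 → H.B x y ≠ 0 →
      ∃ r ∈ H.E W, ∃ a : K, a ≠ 0 ∧ r x = a • y := fun x hx y hy hxx hyy h => by
    have h1 : H.B x ((H.σ (H.B x y))⁻¹ • y) = 1 := by simp [h]
    obtain ⟨r, hr, e⟩ := exists_E_of_real (p := p) hx (W.smul_mem (H.σ (H.B x y))⁻¹ hy) hxx
      (by simp [hyy]) (h1 ▸ one_ne_zero) (by simp [h1])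
    exact ⟨r, hr, _, inv_ne_zero ((map_ne_zero H.σ).2 h), e⟩
  by_cases h : H.B x y = 0
  · obtain ⟨w, hw, h1, h2, h3⟩ := hW.exists_common hx hy hx0 hy0 hxx (symm0 h)
    obtain ⟨r, hr, a, ha, e⟩ := key x hx w hw hxx h1 h2
    obtain ⟨r', hr', a', ha', e'⟩ := key w hw y hy h1 hyy (symm_ne h3)
    exact ⟨r' * r, mul_mem hr' hr, a * a', mul_ne_zero ha ha', by
      rw [LinearEquiv.mul_apply, e, map_smul, e', smul_smul]⟩
  · exact key x hx y hy hxx hyy h

theorem exists_E_scale {W : Submodule K V} {e f : V} (he : e ∈ W) (hf : f ∈ W) (hee : H.B e e = 0)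
    (hff : H.B f f = 0) (hef : H.B e f = 1) {a : K} (ha : a ≠ 0)
    (h : H.σ a = a ∨ ∃ w ∈ H.pp W e f, H.B w w ≠ 0) : ∃ r ∈ H.E W, r e = a • e := by
  obtain ⟨r, hr, e1⟩ := exists_E_of_real (p := p) he hf hee hff (hef ▸ one_ne_zero) (by simp [hef])
  have h1 : H.B f (a • e) ≠ 0 := by simp [symm1 hef, ha]
  obtain ⟨r', hr', e2⟩ : ∃ r ∈ H.E W, r f = a • e := by
    rcases h with h | ⟨w, hw, h⟩
    · exact exists_E_of_real (p := p) hf (W.smul_mem a he) hff (by simp [hee]) h1 (by simp [symm1 hef, h])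
    · obtain ⟨h2, h3, h4⟩ := mem_pp.1 hw
      exact exists_E_of_aniso (p := p) hf (W.smul_mem a he) h2 hff (by simp [hee]) h1 h h4 (by simp [h3])
  exact ⟨r' * r, mul_mem hr' hr, by rw [LinearEquiv.mul_apply, e1, e2]⟩

theorem Nd.exists_E_scale {W : Submodule K V} (hW : H.Nd W) {e f : V} (he : e ∈ W) (hf : f ∈ W)
    (hee : H.B e e = 0) (hff : H.B f f = 0) (hef : H.B e f = 1) {a : K} (ha : a ≠ 0)
    (h : H.σ a = a ∨ H.pp W e f ≠ ⊥) : ∃ r ∈ H.E W, r e = a • e := by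
  refine Herm.exists_E_scale (p := p) he hf hee hff hef ha ?_
  by_cases h1 : H.σ a = a
  · exact Or.inl h1
  · exact Or.inr ((hW.pp he hf hee hff hef).exists_aniso (h.resolve_left h1) h1)

theorem exists_decomp {W : Submodule K V} {e f : V} (he : e ∈ W) (hf : f ∈ W) (hee : H.B e e = 0)
    (hef : H.B e f = 1) {g : V ≃ₗ[K] V} (hg : g ∈ H.supp W) (h : g e = e) :
    ∃ r ∈ H.R e ⊓ H.supp W, r * g ∈ H.supp (H.pp W e f) := by
  have h1 : H.B (g f) e = H.B f e := by rw [← hg.1.1 f e, h]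
  obtain ⟨r, hr, e1⟩ := exists_R_apply (p := p) hee (hg.1.1 f f) h1 (by rw [h1, symm1 hef]; simp) he
    (W.sub_mem hf (supp_mem hg hf))
  exact ⟨r, hr, mem_supp_pp (mul_mem hr.2 hg) (by rw [LinearEquiv.mul_apply, h, R_fix hr.1]) e1⟩

omit hp [CharP K p] in
theorem Nd.eq_one_of_fix {W : Submodule K V} (hW : H.Nd W) {g : V ≃ₗ[K] V} (hg : g ∈ H.supp W)
    (h : ∀ x ∈ W, g x = x) : g = 1 := by
  ext x
  by_contra h1
  obtain ⟨w, hw, h2⟩ := hW _ (hg.2 x) (sub_ne_zero.2 h1)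
  exact h2 (sub_mem_perp hg.1 h x w hw)

theorem Nd.real_of_pp_bot [FiniteDimensional K V] {W : Submodule K V} (hW : H.Nd W) {e f : V} (he : e ∈ W)
    (hf : f ∈ W) (hee : H.B e e = 0) (hff : H.B f f = 0) (hef : H.B e f = 1) (h0 : H.pp W e f = ⊥)
    {g : V ≃ₗ[K] V} (hg : g ∈ H.supp W) {a : K} (h : g e = a • e) : H.σ a = a := by
  have ha : a ≠ 0 := by
    rintro rfl
    have := hg.1.1 e f
    simp [h, hef] at this
  have ha' : H.σ a ≠ 0 := (map_ne_zero H.σ).2 ha
  have h1 : H.B (g f) e = H.B ((H.σ a)⁻¹ • f) e := by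
    have := hg.1.1 f e
    rw [h, smul_right] at this
    rw [smul_left, ← this]; field_simp
  obtain ⟨r, hr, e1⟩ := exists_R_apply (p := p) hee ((hg.1.1 f f).trans (by simp [hff])) h1
    (by rw [h1]; simp [symm1 hef, ha]) he (W.sub_mem (W.smul_mem _ hf) (supp_mem hg hf))
  have hg' := mul_mem hr.2 hg
  rcases hg'.1.2 with h2 | h2
  swap
  · exact h2 a
  have h3 : ((r * g : V ≃ₗ[K] V) : V →ₗ[K] V) = LinearMap.transvection ((a - 1) • H.dual f) e ∘ₗ
      LinearMap.transvection ((1 - (H.σ a)⁻¹) • H.dual e) f := by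
    ext x
    have h4 : x - H.B x f • e + H.B x e • f ∈ H.perp W := fun y hy => by
      have h5 := proj_mem_pp he hf hee hff hef hy
      rw [h0, Submodule.mem_bot] at h5
      have h6 : y = H.B y f • e - H.B y e • f := by linear_combination (norm := module) h5
      rw [h6]; simp [hee, hff, hef, symm1 hef]
    have h5 := hW.fix hg' h4
    rw [map_add, map_sub, map_smul, map_smul, LinearEquiv.mul_apply r g e, LinearEquiv.mul_apply r g f, e1,
      h, map_smul, R_fix hr.1] at h5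
    simp only [LinearEquiv.coe_coe, LinearMap.comp_apply, LinearMap.transvection.apply, LinearMap.smul_apply,
      dual_apply, add_left, smul_left, hff, smul_eq_mul]
    linear_combination (norm := module) h5
  have h4 := congrArg LinearMap.det h3
  rw [← LinearEquiv.coe_det, h2, LinearMap.det_comp, LinearMap.transvection.det,
    LinearMap.transvection.det] at h4
  simp only [Units.val_one, LinearMap.smul_apply, dual_apply, hef, symm1 hef, smul_eq_mul] at h4
  field_simp at h4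
  linear_combination h4

theorem Nd.eq_one_of_aniso {W : Submodule K V} (hW : H.Nd W) (h : ∀ x ∈ W, H.B x x = 0 → x = 0)
    {g : V ≃ₗ[K] V} (hg : g ∈ H.supp W) {k : ℕ} (hk : g ^ p ^ k = 1) : g = 1 :=
  hW.eq_one_of_fix hg fun x hx => by
    by_cases hx0 : x = 0
    · simp [hx0]
    · exact apply_eq_of_eigen hk (le_span_of_aniso h hx hx0 (supp_mem hg hx))

/-- The isometry group is generated by Eichler transformations. -/
theorem Nd.supp_le_E [FiniteDimensional K V] {W : Submodule K V} (hW : H.Nd W) : H.supp W ≤ H.E W := by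
  induction W using WellFoundedLT.induction with
  | ind W ih =>
  intro g hg
  by_cases h : ∀ x ∈ W, H.B x x = 0 → x = 0
  · rw [hW.eq_one_of_fix hg fun w hw => ?_]
    · exact one_mem _
    by_cases hw0 : w = 0
    · simp [hw0]
    have hww : H.B w w ≠ 0 := fun h' => hw0 (h w hw h')
    rcases hg.1.2 with h2 | h2
    swap
    · rcases H.case with ⟨-, h3⟩ | ⟨⟨t, ht⟩, -⟩
      exacts [absurd (h3 w) hww, absurd (h2 t) ht]
    set a := H.B (g w) w / H.B w w
    have ha : g w = a • w := le_span_of_aniso h hw hw0 (supp_mem hg hw)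
    have h3 : (g : V →ₗ[K] V) = LinearMap.transvection (((a - 1) / H.B w w) • H.dual w) w := by
      ext x
      have h4 : x - (H.B x w / H.B w w) • w ∈ H.perp W := fun y hy => by
        rw [le_span_of_aniso h hw hw0 hy]; simp [hww]
      have h5 := hW.fix hg h4
      rw [map_sub, map_smul, ha] at h5
      simp only [LinearEquiv.coe_coe, LinearMap.transvection.apply, LinearMap.smul_apply, dual_apply,
        smul_eq_mul]
      linear_combination (norm := module) h5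
    have h4 := congrArg LinearMap.det h3
    rw [← LinearEquiv.coe_det, h2, LinearMap.transvection.det] at h4
    simp only [Units.val_one, LinearMap.smul_apply, dual_apply, smul_eq_mul, div_mul_cancel₀ _ hww] at h4
    rw [ha, show a = 1 by linear_combination -h4, one_smul]
  · push Not at h
    obtain ⟨e, he, hee, he0⟩ := h
    obtain ⟨f, hf, hff, hef⟩ := hW.exists_partner he he0 hee
    obtain ⟨r, hr, a, ha, e1⟩ := hW.exists_E_point (p := p) (supp_mem hg he) he (by simpa) he0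
      ((hg.1.1 e e).trans hee) hee
    have hg1 := mul_mem (E_le_supp W hr) hg
    obtain ⟨r', hr', e2⟩ := hW.exists_E_scale (p := p) he hf hee hff hef ha (by
      by_cases h0 : H.pp W e f = ⊥
      · exact Or.inl (hW.real_of_pp_bot (p := p) he hf hee hff hef h0 hg1 e1)
      · exact Or.inr h0)
    obtain ⟨r'', hr'', h1⟩ := exists_decomp (p := p) he hf hee hef
      (mul_mem (inv_mem (E_le_supp W hr')) hg1) (by
        rw [LinearEquiv.mul_apply, LinearEquiv.mul_apply, e1, ← e2]; simp)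
    have h2 := E_mono pp_le (ih _ (pp_lt he hef) (hW.pp he hf hee hff hef) h1)
    rwa [mul_mem_cancel_left (R_le_E he he0 hee hr''), mul_mem_cancel_left (inv_mem hr'),
      mul_mem_cancel_left hr] at h2

theorem Nd.mem_span_of_fix {W : Submodule K V} (hW : H.Nd W) {e w : V} (he : e ∈ W) (he0 : e ≠ 0)
    (hee : H.B e e = 0) (hw : w ∈ W) (h : ∀ r ∈ H.R e ⊓ H.supp W, r w = w) : ∃ a : K, w = a • e := by
  obtain ⟨f, hf, hff, hef⟩ := hW.exists_partner he he0 hee
  have h1 : H.B w e = 0 := by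
    have := h _ (eich_mem_supp (p := p) (c := 1) hee (H.zero_left e) (by simp) he W.zero_mem)
    rw [eich_apply hee (by simp)] at this
    simpa [he0] using this
  have h2 := proj_mem_pp he hf hee hff hef hw
  rw [h1, zero_smul, add_zero] at h2
  refine ⟨H.B w f, sub_eq_zero.1 ?_⟩
  by_contra h3
  obtain ⟨u, hu, h4⟩ := hW.pp he hf hee hff hef _ h2 h3
  obtain ⟨hu1, hu2, -⟩ := mem_pp.1 hu
  obtain ⟨c, hc⟩ := H.exists_sub_σ u
  have := h _ (eich_mem_supp (p := p) hee hu2 hc he hu1)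
  rw [eich_apply hee hu2] at this
  refine h4 ?_
  simpa [h1, he0, symm0 hu2] using this

variable [Finite V]

theorem Nd.exists_fix {W : Submodule K V} (hW : H.Nd W) {P : Subgroup (V ≃ₗ[K] V)}
    (hP : SylowIn p P (H.supp W)) {z : V} (hz : z ∈ W) (hz0 : z ≠ 0) (hzz : H.B z z = 0) :
    ∃ e ∈ W, e ≠ 0 ∧ H.B e e = 0 ∧ H.R e ⊓ H.supp W ≤ P ∧ ∀ g ∈ P, g e = e := by
  obtain ⟨b, hb, h⟩ := hP.exists_conj (isPGroup_RE (H := H) (K ∙ z)).to_inf_left inf_le_right
  have h1 : H.R (b z) ⊓ H.supp W ≤ P := fun r hr => by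
    have h2 := conj_mem_R (inv_mem hb.1) hr.1
    simp only [LinearEquiv.coe_inv, LinearEquiv.symm_apply_apply] at h2
    simpa [mul_assoc] using h _ ⟨h2, (H.supp W).mul_mem (mul_mem (inv_mem hb) hr.2) (inv_mem (inv_mem hb))⟩
  have h2 : b z ≠ 0 := by simpa
  have h3 := (hb.1.1 z z).trans hzz
  refine ⟨b z, supp_mem hb hz, h2, h3, h1, fun g hg => ?_⟩
  obtain ⟨w, hw, hw0, h4⟩ := exists_fixed_vector hP.isPGroup (fun g hg x hx => supp_mem (hP.le hg) hx) hz hz0
  obtain ⟨a, rfl⟩ := hW.mem_span_of_fix (p := p) (supp_mem hb hz) h2 h3 hw fun r hr => h4 r (h1 hr)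
  have := h4 g hg
  rw [map_smul] at this
  exact smul_right_injective V (left_ne_zero_of_smul hw0) this

theorem Nd.sylowIn_pp {W : Submodule K V} (hW : H.Nd W) {P : Subgroup (V ≃ₗ[K] V)}
    (hP : SylowIn p P (H.supp W)) {e f : V} (he : e ∈ W) (hf : f ∈ W) (hee : H.B e e = 0)
    (hff : H.B f f = 0) (hef : H.B e f = 1) (h1 : H.R e ⊓ H.supp W ≤ P) (h2 : ∀ g ∈ P, g e = e) :
    SylowIn p (P ⊓ H.supp (H.pp W e f)) (H.supp (H.pp W e f)) := by
  refine ⟨inf_le_right, hP.isPGroup.to_inf_left, fun Q hQ h3 h4 => le_inf ?_ h4⟩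
  have h5 : Q ≤ H.supp W := h4.trans (supp_mono pp_le)
  refine le_sup_left.trans (hP.max _ (isPGroup_sup_of_le_normalizer hQ
    (isPGroup_RE (H := H) (K ∙ e)).to_inf_left (K := H.R e ⊓ H.supp W) fun g hg => ?_) (fun g hg => ?_)
    (sup_le h5 inf_le_right))
  · refine mem_normalizer_inf (mem_normalizer_of_finite fun r hr => ?_) (le_normalizer (h5 hg))
    have := conj_mem_R (h5 hg).1 hr
    rwa [(hW.pp he hf hee hff hef).fix (h4 hg) left_mem_perp_pp] at this
  · obtain ⟨r, hr, h6⟩ := exists_decomp (p := p) he hf hee hef (hP.le hg) (h2 g hg)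
    rw [← mul_mem_cancel_left (mem_sup_right hr)]
    exact mem_sup_left (h3 ⟨mul_mem (h1 hr) hg, h6⟩)

theorem Nd.sylow_le {W : Submodule K V} (hW : H.Nd W) {P T : Subgroup (V ≃ₗ[K] V)}
    (hP : SylowIn p P (H.supp W)) (h : ∀ z, z ≠ 0 → H.B z z = 0 → P ⊓ H.R z ≤ T) : P ≤ T := by
  haveI : Finite (Submodule K V) := Finite.of_injective _ SetLike.coe_injective
  induction W using WellFoundedLT.induction generalizing P with
  | ind W ih =>
  intro g hg
  by_cases h0 : ∀ x ∈ W, H.B x x = 0 → x = 0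
  · obtain ⟨k, hk⟩ := hP.isPGroup ⟨g, hg⟩
    rw [hW.eq_one_of_aniso h0 (hP.le hg) (k := k) (congrArg Subtype.val hk)]
    exact one_mem _
  · push Not at h0
    obtain ⟨z, hz, hzz, hz0⟩ := h0
    obtain ⟨e, he, he0, hee, h1, h2⟩ := hW.exists_fix hP hz hz0 hzz
    obtain ⟨f, hf, hff, hef⟩ := hW.exists_partner he he0 hee
    obtain ⟨r, hr, h3⟩ := exists_decomp (p := p) he hf hee hef (hP.le hg) (h2 g hg)
    rw [← mul_mem_cancel_left (h e he0 hee ⟨h1 hr, hr.1⟩)]
    exact ih _ (pp_lt he hef) (hW.pp he hf hee hff hef) (hW.sylowIn_pp hP he hf hee hff hef h1 h2)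
      (fun z h4 h5 => (inf_le_inf_right _ inf_le_left).trans (h z h4 h5)) ⟨mul_mem (h1 hr) hg, h3⟩

omit [Finite V] in
theorem pCentric_RE {E : Submodule K V} (hE : E ≤ H.perp E) (h0 : E ≠ ⊥) : PCentric p H.G (H.RE E) := by
  rintro c hc hc' ⟨k, hk⟩
  have key : ∀ z ∈ E, ∀ u ∈ H.perp E, ∀ a, a - H.σ a = H.B u u → H.eich (c z) (c u) a = H.eich z u a :=
    fun z hz u hu a ha => by
      rw [← eich_conj hc (hE hz z hz) (hu z hz), ← hc' _ (eich_mem_RE (p := p) hE hz hu ha),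
        mul_inv_cancel_right]
  have h1 : ∀ z ∈ E, c z = z := fun z hz => by
    by_cases hz0 : z = 0
    · simp [hz0]
    obtain ⟨x, hx⟩ := H.nondeg z hz0
    have h2 := LinearEquiv.congr_fun (key z hz 0 (zero_mem _) 1 (by simp)) x
    rw [eich_apply ((hc.1 z z).trans (hE hz z hz)) (by simp), eich_apply (hE hz z hz) (by simp)] at h2
    simp only [map_zero, smul_zero, add_zero, zero_right, one_mul, zero_add, add_right_inj] at h2
    have h3 : H.B x (c z) ≠ 0 := fun h => by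
      rw [h, zero_smul, eq_comm, smul_eq_zero] at h2
      exact h2.elim (symm_ne hx) hz0
    exact apply_eq_of_eigen hk (a := (H.B x (c z))⁻¹ * H.B x z) (by
      rw [mul_smul, ← h2, smul_smul, inv_mul_cancel₀ h3, one_smul])
  refine ⟨hc, h1, fun u hu => ?_⟩
  obtain ⟨z, hz, hz0⟩ := (Submodule.ne_bot_iff _).1 h0
  obtain ⟨x, hx⟩ := H.nondeg z hz0
  obtain ⟨a, ha⟩ := H.exists_sub_σ u
  have h2 := LinearEquiv.congr_fun (key z hz u hu a ha) x
  rw [eich_apply ((hc.1 z z).trans (hE hz z hz)) ((hc.1 u z).trans (hu z hz)),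
    eich_apply (hE hz z hz) (hu z hz), h1 z hz] at h2
  have h3 : c u - u = ((H.B x z)⁻¹ * (H.B x u - H.B x (c u))) • z := by
    rw [mul_smul, eq_inv_smul_iff₀ (symm_ne hx)]
    linear_combination (norm := module) h2
  rw [h3]
  exact E.smul_mem _ hz

end Herm

end Cfsg.Agent.H2
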