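import Cfsg.Agent.Lib.H2.Herm2
import Cfsg.Agent.Lib.H9.PGroup

/-! Symplectic and unitary groups: simplicity of the fusion system in the defining characteristic (helper2). -/

set_option autoImplicit false
set_option linter.style.haveILetI false
set_option linter.unusedSectionVars false
open Cfsg Subgroup

namespace Cfsg.Agent.H2

open Cfsg.FusionSystem Cfsg.Agent.H7

namespace Herm

variable {K V : Type*} [Field K] [AddCommGroup V] [Module K V] {H : Herm K V}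

/-- The standard configuration for a Sylow subgroup in rank at least two. -/
structure Conf (H : Herm K V) (p : ℕ) (S : Subgroup (V ≃ₗ[K] V)) (v f e g : V) : Prop where
  syl : SylowIn p S H.G
  vv : H.B v v = 0
  ff : H.B f f = 0
  vf : H.B v f = 1
  e_mem : e ∈ H.pp ⊤ v f
  g_mem : g ∈ H.pp ⊤ v f
  ee : H.B e e = 0
  gg : H.B g g = 0
  eg : H.B e g = 1
  Rv : H.R v ≤ S
  Re : H.R e ⊓ H.supp (H.pp ⊤ v f) ≤ S
  fix : ∀ s ∈ S, s v = v
  fix2 : ∀ s ∈ S, s e - e ∈ K ∙ v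

variable {p : ℕ} [hp : Fact p.Prime] [CharP K p] [Finite K] [Finite V]

theorem exists_conf (h : 4 ≤ Module.finrank K V) {S : Subgroup (V ≃ₗ[K] V)} (hS : SylowIn p S H.G) :
    ∃ v f e g, H.Conf p S v f e g := by
  have hS' := hS
  rw [← supp_top] at hS'
  obtain ⟨z, hz0, hzz⟩ : ∃ z : V, z ≠ 0 ∧ H.B z z = 0 := by
    by_contra! h1
    haveI : Nontrivial V := Module.nontrivial_of_finrank_pos (R := K) (by omega)
    obtain ⟨w, hw⟩ := exists_ne (0 : V)
    have h2 := finrank_le_of_span_eq_top (R := K) (v := ![w]) (eq_top_iff.2 fun x _ => by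
      rw [Submodule.mem_span_range_iff_exists_fun]
      refine ⟨![H.B x w / H.B w w], ?_⟩
      simpa using (le_span_of_aniso (W := ⊤) (fun y _ h2 => by_contra fun h3 => h1 y h3 h2) trivial hw
        trivial).symm)
    simp at h2; omega
  obtain ⟨v, -, hv0, hvv, h1, h2⟩ := nd_top.exists_fix hS' trivial hz0 hzz
  obtain ⟨f, -, hff, hvf⟩ := nd_top.exists_partner trivial hv0 hvv
  have hW := nd_top.pp trivial trivial hvv hff hvf
  obtain ⟨z', hz', hz0', hzz'⟩ := exists_isotropic_of_finrank hvv hff hvf h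
  obtain ⟨e, he, he0, hee, h3, h4⟩ := hW.exists_fix
    (nd_top.sylowIn_pp hS' trivial trivial hvv hff hvf h1 h2) hz' hz0' hzz'
  obtain ⟨g, hg, hgg, heg⟩ := hW.exists_partner he he0 hee
  refine ⟨v, f, e, g, hS, hvv, hff, hvf, he, hg, hee, hgg, heg, fun r hr => h1 ⟨hr, hr.1, fun _ => trivial⟩,
    h3.trans inf_le_left, h2, fun s hs => ?_⟩
  obtain ⟨r, hr, h5⟩ := exists_decomp (p := p) (W := ⊤) trivial trivial hvv hvf (hS'.le hs) (h2 s hs)
  have h6 := h4 _ ⟨mul_mem (h1 hr) hs, h5⟩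
  have h7 := (inv_mem hr.1 : r⁻¹ ∈ H.R v).2.2 e (mem_perp_span.2 (mem_pp.1 he).2.1)
  rwa [← h6, ← LinearEquiv.mul_apply, inv_mul_cancel_left, h6] at h7

omit [Finite K] [Finite V] in
theorem stab_le_closure [FiniteDimensional K V] {v : V} (hv0 : v ≠ 0) (hvv : H.B v v = 0) {g : V ≃ₗ[K] V}
    [Finite V] (hg : g ∈ H.G) (h : g v = v) : g ∈ closure (pElts p H.G (H.R v)) := by
  obtain ⟨f, -, hff, hvf⟩ := nd_top.exists_partner trivial hv0 hvv
  have hW := nd_top.pp trivial trivial hvv hff hvf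
  obtain ⟨r, hr, h1⟩ := exists_decomp (p := p) (W := ⊤) trivial trivial hvv hvf (by rwa [supp_top]) h
  rw [← mul_mem_cancel_left (subset_closure (k := pElts p H.G (H.R v))
    ⟨hr.1.1, le_normalizer hr.1, 3, RE_pow hr.1⟩)]
  refine (closure_le _).2 ?_ (hW.supp_le_E (p := p) h1)
  rintro x ⟨z, -, -, -, hx⟩
  refine subset_closure ⟨hx.1.1, mem_normalizer_of_finite fun y hy => ?_, 3, RE_pow hx.1⟩
  have := conj_mem_R hx.1.1 hy
  rwa [hW.fix hx.2 left_mem_perp_pp] at this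

omit [Finite K] [Finite V] in
include hp in
theorem exists_shear {v e g : V} (hvv : H.B v v = 0) (hev : H.B e v = 0) (hgv : H.B g v = 0)
    (hgg : H.B g g = 0) (heg : H.B e g = 1) (a : K) : ∃ r ∈ H.R v, r e = e + a • v := by
  refine ⟨_, eich_mem_R (p := p) (u := H.σ a • g) (c := 0) hvv (by simp [hgv]) (by simp [hgg]), ?_⟩
  rw [eich_apply hvv (by simp [hgv])]
  simp [hev, heg]

namespace Conf

variable {S : Subgroup (V ≃ₗ[K] V)} {v f e g : V} (C : H.Conf p S v f e g)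
include C

omit hp [CharP K p] [Finite K] [Finite V] in
theorem v0 : v ≠ 0 := ne_zero_left (C.vf ▸ one_ne_zero)

omit hp [CharP K p] [Finite K] [Finite V] in
theorem e0 : e ≠ 0 := ne_zero_left (C.eg ▸ one_ne_zero)

omit hp [CharP K p] [Finite K] [Finite V] in
theorem nd : H.Nd (H.pp ⊤ v f) := nd_top.pp trivial trivial C.vv C.ff C.vf

theorem aut {A : Subgroup (V ≃ₗ[K] V)}
    (hA : ∀ R ≤ S, PCentric p H.G R → closure (pElts p H.G R) ⊓ normalizer (S : Set (V ≃ₗ[K] V)) ≤ A) :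
    H.G ⊓ normalizer (S : Set (V ≃ₗ[K] V)) ≤ A := by
  rintro x ⟨hx, hn⟩
  obtain ⟨-, hev, hef⟩ := mem_pp.1 C.e_mem
  obtain ⟨-, hgv, hgf⟩ := mem_pp.1 C.g_mem
  obtain ⟨a, ha⟩ := nd_top.mem_span_of_fix (p := p) trivial C.v0 C.vv (w := x v) trivial fun r hr => by
    have := C.fix _ (inv_conj_mem_of_mem_normalizer hn (C.Rv hr.1))
    rw [LinearEquiv.mul_apply, LinearEquiv.mul_apply] at this
    conv_rhs => rw [← this]
    simp
  have ha0 : a ≠ 0 := by
    rintro rfl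
    exact C.v0 (by simpa using ha)
  set E : Submodule K V := Submodule.span K {v, e} with hE
  have hv : v ∈ E := Submodule.subset_span (by simp)
  have he : e ∈ E := Submodule.subset_span (by simp)
  have hE1 : E ≤ H.perp E := fun y hy z hz => by
    obtain ⟨s, t, rfl⟩ := Submodule.mem_span_pair.1 hy
    obtain ⟨s', t', rfl⟩ := Submodule.mem_span_pair.1 hz
    simp [C.vv, C.ee, hev, symm0 hev]
  have hN : ∀ y ∈ H.G, y v ∈ E → y e ∈ E → y ∈ normalizer (H.RE E : Set (V ≃ₗ[K] V)) := by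
    intro y hy h1 h2
    have h3 : ∀ z ∈ E, y z ∈ E := fun z hz => by
      obtain ⟨s, t, rfl⟩ := Submodule.mem_span_pair.1 hz
      rw [map_add, map_smul, map_smul]
      exact E.add_mem (E.smul_mem _ h1) (E.smul_mem _ h2)
    refine mem_normalizer_of_finite fun r hr => conj_mem_RE hy h3 (fun z hz => ?_) hr
    obtain ⟨n, hn, h4⟩ := (isOfFinOrder_of_finite y).exists_pow_eq_one
    obtain ⟨n, rfl⟩ := Nat.exists_eq_succ_of_ne_zero hn.ne'
    rw [pow_succ, mul_eq_one_iff_eq_inv] at h4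
    rw [← h4]
    clear h4 hn
    induction n with
    | zero => exact hz
    | succ n ih => rw [pow_succ', LinearEquiv.mul_apply]; exact h3 _ ih
  have hSN : S ≤ normalizer (H.RE E : Set (V ≃ₗ[K] V)) := fun s hs =>
    hN s (C.syl.le hs) (by rwa [C.fix s hs]) (by
      simpa using E.add_mem ((Submodule.span_singleton_le_iff_mem _ _).2 hv (C.fix2 s hs)) he)
  have hA1 := hA _ (C.syl.le_of_le_normalizer (isPGroup_RE E) (fun _ h => h.1) hSN)
    (pCentric_RE hE1 ((Submodule.ne_bot_iff _).2 ⟨v, hv, C.v0⟩))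
  have hA2 := hA _ C.Rv (pCentric_RE ((Submodule.span_singleton_le_iff_mem _ _).2 (mem_perp_span.2 C.vv))
    (by simpa using C.v0))
  set X := closure (pElts p H.G (H.RE E))
  obtain ⟨h, hh, h1⟩ : ∃ h ∈ X, h v = a • v := by
    have k1 : ∀ t : K, ∃ r ∈ X, r v = v ∧ r e = e + t • v := fun t => by
      obtain ⟨r, hr, h1⟩ := exists_shear (p := p) C.vv hev hgv C.gg C.eg t
      exact ⟨r, subset_closure ⟨hr.1, hN r hr.1 (by rwa [R_fix hr])
        (h1 ▸ E.add_mem he (E.smul_mem _ hv)), 3, RE_pow hr⟩, R_fix hr, h1⟩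
    have k2 : ∀ t : K, ∃ r ∈ X, r e = e ∧ r v = v + t • e := fun t => by
      obtain ⟨r, hr, h1⟩ := exists_shear (p := p) C.ee (symm0 hev) (symm0 hef) C.ff C.vf t
      exact ⟨r, subset_closure ⟨hr.1, hN r hr.1 (h1 ▸ E.add_mem hv (E.smul_mem _ he))
        (by rwa [R_fix hr]), 3, RE_pow hr⟩, R_fix hr, h1⟩
    obtain ⟨r1, hr1, -, h1⟩ := k2 1
    obtain ⟨r2, hr2, h2, h3⟩ := k1 (a - 1)
    obtain ⟨r3, hr3, h4, h5⟩ := k2 (-a⁻¹)
    refine ⟨r3 * r2 * r1, mul_mem (mul_mem hr3 hr2) hr1, ?_⟩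
    simp only [LinearEquiv.mul_apply, h1, h2, h3, h4, h5, map_add, map_smul]
    match_scalars <;> field_simp <;> ring
  have hXG : X ≤ H.G := (closure_le _).2 fun _ h => h.1
  have hS : SylowIn p S (X ⊓ MulAction.stabilizer _ v) := C.syl.mono_right (fun s hs =>
    ⟨subset_closure ⟨C.syl.le hs, hSN hs, (C.syl.isPGroup ⟨s, hs⟩).imp fun k hk => congrArg Subtype.val hk⟩,
      C.fix s hs⟩) (inf_le_left.trans hXG)
  obtain ⟨n, hn1, hn2⟩ := hS.frattini (b := h) (mem_normalizer_inf (le_normalizer hh)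
    (mem_normalizer_of_finite fun y hy => by
      have h2 : h⁻¹ v = a⁻¹ • v := by
        rw [eq_inv_smul_iff₀ ha0, ← map_smul, ← h1]; simp
      change h (y (h⁻¹ v)) = v
      rw [h2, map_smul, show y v = v from hy, map_smul, h1, smul_smul, inv_mul_cancel₀ ha0, one_smul]))
  have h2 : n⁻¹ * h ∈ X := mul_mem (inv_mem hn1.1) hh
  rw [← mul_mem_cancel_left (inv_mem (hA1 ⟨h2, hn2⟩))]
  refine hA2 ⟨stab_le_closure C.v0 C.vv (mul_mem (inv_mem (hXG h2)) hx) ?_, mul_mem (Subgroup.inv_mem _ hn2) hn⟩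
  have h3 : n v = v := hn1.2
  rw [mul_inv_rev, inv_inv, LinearEquiv.mul_apply, LinearEquiv.mul_apply, ha, map_smul, h3, ← h1]
  simp

variable {T : Subgroup (V ≃ₗ[K] V)} (hT : ∀ x ∈ T, ∀ y ∈ H.G, y * x * y⁻¹ ∈ S → y * x * y⁻¹ ∈ T)
include hT

omit [Finite K] [Finite V] in
theorem conj_mem {u : V} (hu : H.B u v = 0) {c : K} (hc : c - H.σ c = H.B u u) (h : H.eich v u c ∈ T)
    {y : V ≃ₗ[K] V} (hy : y ∈ H.G) (hyv : y v = v) : H.eich v (y u) c ∈ T := by
  have h1 := hT _ h y hy (C.Rv (by simpa [hyv] using conj_mem_R hy (eich_mem_R (p := p) C.vv hu hc)))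
  rwa [eich_conj hy C.vv hu, hyv] at h1

theorem exists_transvection (hex : (∀ a, H.σ a = a) → (∀ a : K, a = 0 ∨ a = 1) → 5 ≤ Module.finrank K V)
    (hTS : T ≤ S) (h0 : T ≠ ⊥) : ∃ a, a ≠ 0 ∧ H.σ a = a ∧ H.eich v 0 a ∈ T := by
  obtain ⟨t, ht, ht1, htp, htc⟩ := H9.exists_mem_centralizer_ne_one (C.syl.isPGroup.to_le hTS)
    C.syl.isPGroup (fun s hs => mem_normalizer_of_finite fun x hx => hT x hx s (C.syl.le hs)
      (mul_mem (mul_mem hs (hTS hx)) (inv_mem hs))) h0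
  have h1 : t ∈ H.R v := pCentric_RE ((Submodule.span_singleton_le_iff_mem _ _).2 (mem_perp_span.2 C.vv))
    (by simpa using C.v0) t (C.syl.le (hTS ht)) (fun r hr => htc r (C.Rv hr)) ⟨1, by rwa [pow_one]⟩
  obtain ⟨u, hu, c, hc, rfl⟩ := R_eq C.vv C.ff C.vf p h1
  have huv := (mem_pp.1 hu).2.1
  by_cases hu0 : u = 0
  · subst hu0
    exact ⟨c, fun h => ht1 (by rw [h, eich_zero C.vv]), by rw [H.zero_left] at hc; linear_combination -hc, ht⟩
  by_cases hs : ∃ s, s + H.σ s ≠ 0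
  · obtain ⟨s, hs⟩ := hs
    obtain ⟨w, hw, h2⟩ := C.nd u hu hu0
    obtain ⟨u', h3, h4⟩ : ∃ u', H.B u' v = 0 ∧ H.B u u' = s :=
      ⟨H.σ (s / H.B u w) • w, by simp [(mem_pp.1 hw).2.1], by simp [h2]⟩
    obtain ⟨c', hc'⟩ := H.exists_sub_σ u'
    have h5 := eich_mem_R (p := p) C.vv h3 hc'
    have h6 := mul_mem (hT _ ht _ h5.1 (mul_mem (mul_mem (C.Rv h5) (hTS ht)) (inv_mem (C.Rv h5))))
      (inv_mem ht)
    rw [eich_inv C.vv h3, eich_inv C.vv huv, eich_mul C.vv h3 huv, eich_mul C.vv (by simp [h3, huv])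
      (by simp [h3]), eich_mul C.vv (by simp [huv]) (by simp [huv])] at h6
    refine ⟨s + H.σ s, hs, by simp [add_comm], ?_⟩
    convert h6 using 2
    · abel
    · simp [← h4, σ_B]; ring
  push Not at hs
  have hσ : ∀ s, H.σ s = s := fun s => by
    have h2 := hs 1
    rw [map_one] at h2
    linear_combination hs s - s * h2
  have halt : ∀ x, H.B x x = 0 := by
    rcases H.case with ⟨-, h⟩ | ⟨⟨t, h⟩, -⟩
    exacts [h, absurd (hσ t) h]
  have k1 : ∀ y ∈ H.pp ⊤ v f, y ≠ 0 → H.eich v y c ∈ T := fun y hy hy0 => by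
    obtain ⟨r, hr, a, ha, h2⟩ := C.nd.exists_E_point (p := p) hu hy hu0 hy0 (halt u) (halt y)
    obtain ⟨y', hy', h3, h4⟩ := C.nd.exists_partner hy hy0 (halt y)
    obtain ⟨r', hr', h5⟩ := C.nd.exists_E_scale (p := p) hy hy' (halt y) h3 h4 (inv_ne_zero ha)
      (Or.inl (hσ _))
    have h6 := E_le_supp _ (mul_mem hr' hr)
    have h7 := C.conj_mem hT huv hc ht h6.1 (C.nd.fix h6 left_mem_perp_pp)
    rwa [LinearEquiv.mul_apply, h2, map_smul, h5, smul_smul, mul_inv_cancel₀ ha, one_smul] at h7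
  have k2 : ∀ y ∈ H.pp ⊤ v f, ∀ y' ∈ H.pp ⊤ v f, y ≠ 0 → y' ≠ 0 → y + y' ≠ 0 →
      H.eich v 0 (c + H.B y' y) ∈ T := fun y hy y' hy' h1 h2 h3 => by
    have h4 := mul_mem (mul_mem (k1 y hy h1) (k1 y' hy' h2)) (inv_mem (k1 _ (add_mem hy hy') h3))
    have h5 := (mem_pp.1 hy).2.1
    have h6 := (mem_pp.1 hy').2.1
    rw [eich_inv C.vv (by simp [h5, h6]), eich_mul C.vv h5 h6, eich_mul C.vv (by simp [h5, h6])
      (by simp [h5, h6])] at h4
    convert h4 using 2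
    · abel
    · simp; ring
  by_cases h2 : ∃ t : K, t ≠ 0 ∧ c + t ≠ 0
  · obtain ⟨t, h2, h3⟩ := h2
    refine ⟨c + t, h3, hσ _, ?_⟩
    simpa [C.eg] using k2 g C.g_mem (t • e) (Submodule.smul_mem _ _ C.e_mem)
      (ne_zero_right (C.eg ▸ one_ne_zero)) (smul_ne_zero h2 C.e0)
      (ne_zero_right (H := H) (x := e) (by simp [C.eg, C.ee]))
  · push Not at h2
    have h3 := h2 1 one_ne_zero
    obtain ⟨w, hw, hw0⟩ := (Submodule.ne_bot_iff _).1 (pp_ne_bot_of_finrank C.vv C.ff C.vf C.e_mem C.g_mem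
      C.ee C.gg C.eg (hex hσ fun a => or_iff_not_imp_left.2 fun h => by linear_combination h2 a h - h3))
    obtain ⟨h4, h5, h6⟩ := mem_pp.1 hw
    refine ⟨c, fun h => by simp [h] at h3, hσ _, ?_⟩
    simpa [symm0 h5] using k2 w h4 e C.e_mem hw0 C.e0
      (ne_zero_left (H := H) (y := g) (by simp [C.eg, h6]))

theorem transvection_mem {a : K} (ha : a ≠ 0) (ha' : H.σ a = a) (h : H.eich v 0 a ∈ T) {z : V} (hz0 : z ≠ 0)
    (hzz : H.B z z = 0) {c : K} (hc : H.σ c = c) (h1 : H.eich z 0 c ∈ S) : H.eich z 0 c ∈ T := by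
  have k1 : ∀ t : K, H.eich v 0 (a * (t * H.σ t)) ∈ T := fun t => by
    by_cases ht : t = 0
    · simp [ht, eich_zero C.vv]
    obtain ⟨r, hr, h2⟩ := nd_top.exists_E_scale (p := p) trivial trivial C.vv C.ff C.vf ht
      (Or.inr ((Submodule.ne_bot_iff _).2 ⟨e, C.e_mem, C.e0⟩))
    have h3 := eich_conj (E_le_supp _ hr).1 C.vv (H.zero_left v) a
    rw [h2, map_zero, eich_smul C.vv] at h3
    rw [← h3]
    refine hT _ h r (E_le_supp _ hr).1 (h3 ▸ C.Rv (eich_mem_R (p := p) C.vv (by simp) ?_))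
    simp [ha', mul_comm]
  have k2 : ∀ c, H.σ c = c → H.eich v 0 c ∈ T := fun c hc => by
    rcases H.case with ⟨h2, -⟩ | ⟨-, h2⟩
    · obtain ⟨s, t, h3⟩ : ∃ s t : K, c / a = s * s - t * t := by
        by_cases h3 : ringChar K = 2
        · obtain ⟨s, hs⟩ := FiniteField.isSquare_of_char_two h3 (c / a)
          exact ⟨s, 0, by simpa⟩
        · have h4 : (2 : K) ≠ 0 := Ring.two_ne_zero h3
          exact ⟨(c / a + 1) / 2, (c / a - 1) / 2, by field_simp; ring⟩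
      have h4 := mul_mem (k1 s) (inv_mem (k1 t))
      rw [eich_inv C.vv (by simp), eich_mul C.vv (by simp) (by simp)] at h4
      convert h4 using 2
      · simp
      · rw [div_eq_iff ha] at h3
        simp only [h2, zero_left, neg_zero, h3]; ring
    · obtain ⟨t, ht⟩ := h2 (c / a) (by simp [hc, ha'])
      simpa [ht, mul_div_cancel₀ _ ha] using k1 t
  obtain ⟨r, hr, t, ht, h2⟩ := nd_top.exists_E_point (p := p) trivial trivial C.v0 hz0 C.vv hzz
  have ht' : H.σ t ≠ 0 := (map_ne_zero H.σ).2 ht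
  have h3 := eich_conj (E_le_supp _ hr).1 C.vv (H.zero_left v) (c / (t * H.σ t))
  rw [h2, map_zero, eich_smul hzz, div_mul_cancel₀ _ (mul_ne_zero ht ht')] at h3
  rw [← h3] at h1 ⊢
  exact hT _ (k2 _ (by simp [hc, mul_comm])) r (E_le_supp _ hr).1 h1

theorem R_le {a : K} (ha : a ≠ 0) (ha' : H.σ a = a) (h : H.eich v 0 a ∈ T) : H.R v ≤ T := by
  obtain ⟨-, hev, hef⟩ := mem_pp.1 C.e_mem
  obtain ⟨-, hgv, hgf⟩ := mem_pp.1 C.g_mem
  let P : V → Prop := fun u => ∃ c, c - H.σ c = H.B u u ∧ H.eich v u c ∈ T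
  have k0 : ∀ u ∈ H.pp ⊤ v f, ∀ u' ∈ H.pp ⊤ v f, P u → P u' → P (u + u') := by
    rintro u hu u' hu' ⟨c, hc, h1⟩ ⟨c', hc', h2⟩
    refine ⟨_, ?_, eich_mul C.vv (mem_pp.1 hu).2.1 (mem_pp.1 hu').2.1 c c' ▸ mul_mem h1 h2⟩
    simp only [map_add, σ_B, add_left, add_right, ← hc, ← hc']; ring
  have k1 : ∀ t : K, P (t • e) := fun t => by
    have h1 := eich_mem_supp (p := p) (c := 1) C.ee (H.zero_left e) (by simp) C.e_mem (zero_mem _)
    have h2 := C.transvection_mem hT ha ha' h C.e0 C.ee (map_one _) (C.Re h1)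
    have h3 : H.B (-t • g) v = 0 := by simp [hgv]
    have h4 := eich_mem_R (p := p) (c := 0) C.vv h3 (by simp [C.gg])
    have h5 := mul_mem h2 (inv_mem (hT _ h2 _ h4.1
      (mul_mem (mul_mem (C.Rv h4) (C.Re h1)) (inv_mem (C.Rv h4)))))
    rw [mul_inv_rev, mul_inv_rev, inv_inv, ← mul_assoc, ← mul_assoc, eich_conj h1.2.1 C.vv h3,
      eich_inv C.vv h3, C.nd.fix h1.2 left_mem_perp_pp, eich_apply C.ee (by simp),
      eich_mul C.vv (by simp [hgv, hev]) (by simp [hgv])] at h5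
    refine ⟨-(t * H.σ t), by simp [C.ee, mul_comm], ?_⟩
    convert h5 using 2 <;> simp [symm1 C.eg, C.gg, mul_comm]
  have k2 : ∀ y ∈ H.pp ⊤ v f, H.B y y = 0 → P y := fun y hy hyy => by
    by_cases hy0 : y = 0
    · simpa [hy0] using k1 0
    obtain ⟨r, hr, t, ht, h1⟩ := C.nd.exists_E_point (p := p) C.e_mem hy C.e0 hy0 C.ee hyy
    obtain ⟨c, hc, h2⟩ := k1 t⁻¹
    have h3 := C.conj_mem hT (by simp [hev]) hc h2 (E_le_supp _ hr).1
      (C.nd.fix (E_le_supp _ hr) left_mem_perp_pp)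
    rw [map_smul, h1, smul_smul, inv_mul_cancel₀ ht, one_smul] at h3
    exact ⟨c, by simpa [hyy, C.ee] using hc, h3⟩
  have k3 : ∀ y ∈ H.pp ⊤ v f, H.B e y ≠ 0 → P y := fun y hy h1 => by
    obtain ⟨t, ht⟩ := exists_isotropic_add C.ee h1
    have h2 := add_mem hy (Submodule.smul_mem _ t C.e_mem)
    simpa using k0 _ h2 _ (Submodule.smul_mem _ (-t) C.e_mem) (k2 _ h2 ht) (k1 (-t))
  have k4 : ∀ y ∈ H.pp ⊤ v f, P y := fun y hy => by
    by_cases h1 : H.B e y = 0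
    · have h2 := add_mem hy C.g_mem
      simpa using k0 _ h2 _ (neg_mem C.g_mem) (k3 _ h2 (by simp [h1, C.eg]))
        (k2 _ (neg_mem C.g_mem) (by simp [C.gg]))
    · exact k3 y hy h1
  intro r hr
  obtain ⟨u, hu, c, hc, rfl⟩ := R_eq C.vv C.ff C.vf p hr
  obtain ⟨c', hc', h1⟩ := k4 u hu
  have h2 : H.σ (c - c') = c - c' := by rw [map_sub]; linear_combination hc' - hc
  have h3 := mul_mem (C.transvection_mem hT ha ha' h C.v0 C.vv h2
    (C.Rv (eich_mem_R (p := p) C.vv (by simp) (by simp [h2])))) h1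
  rw [eich_mul C.vv (by simp) (mem_pp.1 hu).2.1] at h3
  simpa using h3

theorem sc (hex : (∀ a, H.σ a = a) → (∀ a : K, a = 0 ∨ a = 1) → 5 ≤ Module.finrank K V)
    (hTS : T ≤ S) (h0 : T ≠ ⊥) : S ≤ T := by
  obtain ⟨a, ha, ha', h⟩ := C.exists_transvection hT hex hTS h0
  refine nd_top.sylow_le (H := H) (by rw [supp_top]; exact C.syl) fun z hz0 hzz x hx => ?_
  obtain ⟨r, hr, t, ht, h2⟩ := nd_top.exists_E_point (p := p) trivial trivial hz0 C.v0 hzz C.vv
  have h3 := conj_mem_R (E_le_supp _ hr).1 hx.2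
  rw [h2, R_smul ht] at h3
  simpa [mul_assoc] using hT _ (C.R_le hT ha ha' h h3) r⁻¹ (inv_mem (E_le_supp _ hr).1)
    (by simpa [mul_assoc] using hx.1)

end Conf

theorem simpleFus (H : Herm K V) (h : 4 ≤ Module.finrank K V)
    (hex : (∀ a, H.σ a = a) → (∀ a : K, a = 0 ∨ a = 1) → 5 ≤ Module.finrank K V) :
    SimpleFus p H.G ∧ (Nat.card (center H.G)).Coprime p := by
  obtain ⟨S, hS⟩ := exists_sylowIn p H.G
  obtain ⟨v, f, e, g, C⟩ := exists_conf h hS
  refine ⟨simpleFus_of_sub hS (isSimple_of_crit hS (fun h1 => ?_) (fun T h1 h2 h3 => C.sc h3 hex h1 h2)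
    fun A _ _ hA => C.aut hA), coprime_card_of_forall fun c hc => ?_⟩
  · have h2 := C.Rv (eich_mem_R (p := p) (c := 1) C.vv (H.zero_left v) (by simp))
    rw [h1, mem_bot] at h2
    have h3 := LinearEquiv.congr_fun h2 f
    rw [eich_apply C.vv (by simp)] at h3
    simp [symm1 C.vf, C.v0] at h3
  · have key : ∀ z, z ≠ 0 → H.B z z = 0 → c.1.1 ∈ H.R z := fun z hz0 hzz =>
      pCentric_RE ((Submodule.span_singleton_le_iff_mem _ _).2 (mem_perp_span.2 hzz)) (by simpa) _ c.1.2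
        (fun r hr => congrArg Subtype.val (mem_center_iff.1 c.2 ⟨r, hr.1⟩))
        ⟨1, by rw [pow_one]; exact congrArg (·.1.1) hc⟩
    exact Subtype.ext (Subtype.ext (R_eq_one C.vv C.ff C.vf (key v C.v0 C.vv)
      (R_fix (key f (ne_zero_right (C.vf ▸ one_ne_zero)) C.ff))))

end Herm

end Cfsg.Agent.H2
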