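import Cfsg.Agent.Lib.H2.SimpleFus

/-! `p`-elements and `p`-subgroups of linear groups in characteristic `p` (helper2). -/

set_option autoImplicit false
set_option linter.style.haveILetI false
open Cfsg Subgroup

namespace Cfsg.Agent.H2

/-- A submonoid of a finite group is a subgroup. -/
def subOfFinite {G : Type*} [Group G] [Finite G] (M : Submonoid G) : Subgroup G :=
  { M with inv_mem' := H7.inv_mem_of_pow_mem }

variable {K V : Type*} [Field K] [AddCommGroup V] [Module K V] {p : ℕ} [hp : Fact p.Prime] [CharP K p]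

instance instFiniteLinearEquivH2 [Finite V] : Finite (V ≃ₗ[K] V) :=
  Finite.of_injective (fun g : V ≃ₗ[K] V => (g : V → V)) DFunLike.coe_injective

theorem eq_one_of_pow_char_pow {a : K} {k : ℕ} (h : a ^ p ^ k = 1) : a = 1 := by
  have h1 : (a - 1) ^ p ^ k = 0 := by rw [sub_pow_char_pow, h, one_pow, sub_self]
  exact sub_eq_zero.1 (pow_eq_zero_iff (pow_ne_zero k hp.out.ne_zero) |>.1 h1)

theorem pow_eq_one_of_chain {g : V ≃ₗ[K] V} (P : ℕ → V → Prop) {n : ℕ} (h0 : ∀ x, P 0 x)
    (h1 : ∀ i < n, ∀ x, P i x → P (i + 1) (g x - x)) (h2 : ∀ x, P n x → x = 0) : g ^ p ^ n = 1 := by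
  rcases subsingleton_or_nontrivial V with hV | hV
  · exact LinearEquiv.ext fun x => Subsingleton.elim _ _
  haveI : CharP (Module.End K V) p := charP_of_injective_algebraMap (algebraMap K _).injective p
  have h3 : ∀ i ≤ n, ∀ x, P i ((((g : V →ₗ[K] V) - 1 : Module.End K V) ^ i) x) := by
    intro i
    induction i with
    | zero => exact fun _ x => h0 x
    | succ i ih =>
      intro hi x
      rw [pow_succ', Module.End.mul_apply]
      exact h1 i hi _ (ih (by omega) x)
  have h4 : ((g : V →ₗ[K] V) - 1 : Module.End K V) ^ n = 0 := LinearMap.ext fun x => h2 _ (h3 n le_rfl x)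
  have h5 : ((g : V →ₗ[K] V) - 1 : Module.End K V) ^ p ^ n = 0 :=
    pow_eq_zero_of_le (Nat.lt_pow_self hp.out.one_lt).le h4
  rw [sub_pow_char_pow_of_commute _ _ (Commute.one_right _), one_pow, sub_eq_zero] at h5
  refine LinearEquiv.toLinearMap_injective ?_
  exact (map_pow LinearEquiv.automorphismGroup.toLinearMapMonoidHom g _).trans h5

omit hp [CharP K p] in
theorem pow_apply_of_eigen {g : V ≃ₗ[K] V} {v : V} {a : K} (h : g v = a • v) (n : ℕ) :
    (g ^ n) v = a ^ n • v := by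
  induction n with
  | zero => simp
  | succ n ih => rw [pow_succ', LinearEquiv.mul_apply, ih, map_smul, h, smul_smul, pow_succ]

theorem apply_eq_of_eigen {g : V ≃ₗ[K] V} {k : ℕ} (hg : g ^ p ^ k = 1) {v : V} {a : K} (h : g v = a • v) :
    g v = v := by
  by_cases hv : v = 0
  · simp [hv]
  have h1 := pow_apply_of_eigen h (p ^ k)
  rw [hg] at h1
  have h2 : a ^ p ^ k = 1 := smul_left_injective K hv (by simpa using h1.symm)
  rw [h, eq_one_of_pow_char_pow h2, one_smul]

theorem det_eq_one_of_pow {g : V ≃ₗ[K] V} {k : ℕ} (hg : g ^ p ^ k = 1) : LinearEquiv.det g = 1 := by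
  have h1 : LinearEquiv.det g ^ p ^ k = 1 := by rw [← map_pow, hg, map_one]
  exact Units.ext (eq_one_of_pow_char_pow (k := k) (by rw [← Units.val_pow_eq_pow_val, h1]; rfl))

theorem exists_fixed_vector [Finite V] {P : Subgroup (V ≃ₗ[K] V)} (hP : IsPGroup p P) {W : Submodule K V}
    (hW : ∀ g ∈ P, ∀ x ∈ W, g x ∈ W) {w : V} (hw : w ∈ W) (hw0 : w ≠ 0) :
    ∃ v ∈ W, v ≠ 0 ∧ ∀ g ∈ P, g v = v := by
  letI : MulAction P W :=
    { smul := fun g x => ⟨g.1 x, hW g g.2 x x.2⟩
      one_smul := fun _ => rfl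
      mul_smul := fun _ _ _ => rfl }
  have h1 : addOrderOf (⟨w, hw⟩ : W) = p := addOrderOf_eq_prime (by
    rw [← Nat.cast_smul_eq_nsmul K, CharP.cast_eq_zero, zero_smul]) fun h => hw0 (congrArg Subtype.val h)
  obtain ⟨v, hv, hv0⟩ := hP.exists_fixed_point_of_prime_dvd_card_of_fixed_point W
    (h1 ▸ addOrderOf_dvd_natCard _) (a := 0) fun g => Subtype.ext (map_zero g.1)
  exact ⟨v, v.2, fun h => hv0 (Subtype.ext h.symm), fun g hg => congrArg Subtype.val (hv ⟨g, hg⟩)⟩

omit [CharP K p] in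
theorem coprime_card_of_forall {G : Type*} [Group G] [Finite G] (h : ∀ g : G, g ^ p = 1 → g = 1) :
    (Nat.card G).Coprime p := by
  rw [Nat.coprime_comm, hp.out.coprime_iff_not_dvd]
  intro hd
  obtain ⟨g, hg⟩ := exists_prime_orderOf_dvd_card' p hd
  rw [h g (hg ▸ pow_orderOf_eq_one g), orderOf_one] at hg
  exact hp.out.one_lt.ne hg

end Cfsg.Agent.H2
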